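import Mathlib.Data.Nat.Bitwise
import Mathlib.Tactic
import Cfsg.Agent.H5.L34.Lang_m3
import Cfsg.Agent.H251.L34.Pure_m3
import Cfsg.Agent.ChevFast.E8
import Cfsg.Agent.ChevFast.Tg
import Cfsg.Agent.Lib.ListFast
import Cfsg.Agent.Prune
set_option linter.all false
prune_inst 0x7f00000000000000000000000000000000000000000000000000000000000000000000000000000000000000000000000000000000000000000000000000000000000000000000000000000000000000003fffffffffffffffffffffffffffbeffbdffffffff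
open scoped Cfsg.Agent.FastGrp

/-- decoders of the packed data (elaboration time only) -/
private noncomputable def pk61d (b S i : Nat) : Nat := Nat.mod (Nat.shiftRight S (Nat.mul b i)) (Nat.shiftLeft (nat_lit 1) b)
private noncomputable def pk61f {α : Type} (t : Nat) (f : Nat → α) : α := Nat.rec (f Nat.zero) (fun k _ => f (Nat.succ k)) t
private noncomputable def pk61l {α : Type} (f : Nat → α) (s e : Nat) (tl : List α) : List α :=
  pk61f e fun e => Nat.rec tl (fun k ih => List.cons (pk61f (Nat.sub e (Nat.succ k)) f) ih) (Nat.sub e s)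

-- part: H865/L34/Mach
section
/-!
# S5917 (`L₃(4)` in `E₈(2)`), type A: the exhaustive search over the tensors (helper865), the pure part

A tensor `T ∈ F_2^27` is a mask `m < 2^27`; the element `d` is a mask `dm < 32`.
`pty` : parity of the number of the bits; `eq1 m e` : the value of the quadratic equation `e` (list of the pairs,
the pair `{a, b}` is the mask `2^a + 2^b`); `dfs` : the search; `search` : its result.
-/

set_option autoImplicit false
set_option maxRecDepth 100000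

namespace Cfsg.Agent.H865.L34

/-- sum modulo two over a list -/
def xf {α : Type} (l : List α) (f : α → Bool) : Bool := l.foldr (fun a v => xor (f a) v) false

theorem xf_nil {α : Type} (f : α → Bool) : xf [] f = false := rfl

theorem xf_cons {α : Type} (a : α) (l : List α) (f : α → Bool) : xf (a :: l) f = xor (f a) (xf l f) := rfl

theorem xf_append {α : Type} (l l' : List α) (f : α → Bool) : xf (l ++ l') f = xor (xf l f) (xf l' f) := by
  induction l with
  | nil => rw [List.nil_append, xf_nil, Bool.false_xor]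
  | cons a l ih => rw [List.cons_append, xf_cons, xf_cons, ih, Bool.xor_assoc]

theorem xf_xor {α : Type} (l : List α) (f g : α → Bool) : xf l (fun a => xor (f a) (g a)) = xor (xf l f) (xf l g) := by
  induction l with
  | nil => rfl
  | cons a l ih =>
    rw [xf_cons, xf_cons, xf_cons, ih]
    cases f a <;> cases g a <;> cases xf l f <;> cases xf l g <;> rfl

theorem xf_congr {α : Type} {l : List α} {f g : α → Bool} (h : ∀ a ∈ l, f a = g a) : xf l f = xf l g := by
  induction l with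
  | nil => rfl
  | cons a l ih =>
    rw [xf_cons, xf_cons, h a List.mem_cons_self, ih fun b hb => h b (List.mem_cons_of_mem _ hb)]

theorem xf_false {α : Type} {l : List α} {f : α → Bool} (h : ∀ a ∈ l, f a = false) : xf l f = false := by
  induction l with
  | nil => rfl
  | cons a l ih => rw [xf_cons, h a List.mem_cons_self, ih fun b hb => h b (List.mem_cons_of_mem _ hb)]; rfl

theorem xf_and {α : Type} (c : Bool) (l : List α) (f : α → Bool) : xf l (fun a => c && f a) = (c && xf l f) := by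
  induction l with
  | nil => cases c <;> rfl
  | cons a l ih =>
    rw [xf_cons, xf_cons, ih]
    cases c <;> cases f a <;> cases xf l f <;> rfl

theorem xf_filter {α : Type} (l : List α) (p f : α → Bool) : xf l (fun a => f a && p a) = xf (l.filter p) f := by
  induction l with
  | nil => rfl
  | cons a l ih =>
    rw [xf_cons, ih, List.filter_cons]
    cases h : p a
    · rw [Bool.and_false, Bool.false_xor]; simp
    · rw [Bool.and_true]; simp [xf_cons]

theorem xf_map {α β : Type} (l : List α) (g : α → β) (f : β → Bool) : xf (l.map g) f = xf l fun a => f (g a) := by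
  induction l with
  | nil => rfl
  | cons a l ih => rw [List.map_cons, xf_cons, xf_cons, ih]

theorem xf_eq_of_mem {α : Type} [DecidableEq α] {l : List α} (hl : l.Nodup) {a : α} (ha : a ∈ l) (f : α → Bool) :
    xf l (fun b => f b && decide (b = a)) = f a := by
  induction l with
  | nil => simp at ha
  | cons b l ih =>
    rw [xf_cons]
    rw [List.nodup_cons] at hl
    by_cases h : b = a
    · subst h
      rw [xf_false, Bool.xor_false, decide_eq_true rfl, Bool.and_true]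
      intro c hc
      rw [decide_eq_false (fun h3 : c = b => hl.1 (h3 ▸ hc)), Bool.and_false]
    · rw [decide_eq_false h, Bool.and_false, Bool.false_xor]
      exact ih hl.2 (by simpa [Ne.symm h] using ha)

/-- parity of the number of bits (below `2^32`) -/
def pty (m : ℕ) : Bool :=
  (fun a => (fun b => (fun c => (fun d => (fun e => Nat.beq (Nat.land e 1) 1) (Nat.xor d (Nat.shiftRight d 1)))
    (Nat.xor c (Nat.shiftRight c 2))) (Nat.xor b (Nat.shiftRight b 4))) (Nat.xor a (Nat.shiftRight a 8)))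
    (Nat.xor m (Nat.shiftRight m 16))

theorem xf_half (k m : ℕ) : xf (List.range (k + k)) m.testBit = xf (List.range k) (Nat.xor m (Nat.shiftRight m k)).testBit := by
  rw [List.range_add, xf_append, xf_map, ← xf_xor]
  refine xf_congr fun i _ => ?_
  show _ = (m ^^^ (m >>> k)).testBit i
  rw [Nat.testBit_xor, Nat.testBit_shiftRight]

theorem pty_eq (m : ℕ) : pty m = xf (List.range 32) m.testBit := by
  have h0 : ∀ e : ℕ, Nat.beq (Nat.land e 1) 1 = xf (List.range 1) e.testBit := by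
    intro e
    show _ = xor (e.testBit 0) false
    rw [Bool.xor_false, Nat.testBit_zero, Bool.eq_iff_iff, Nat.beq_eq, decide_eq_true_eq, ← Nat.and_one_is_mod]
    rfl
  show Nat.beq (Nat.land _ 1) 1 = _
  rw [h0, ← xf_half 1, ← xf_half 2, ← xf_half 4, ← xf_half 8, ← xf_half 16]

theorem pty_land (m r : ℕ) : pty (Nat.land m r) = xf (List.range 32) fun k => m.testBit k && r.testBit k := by
  rw [pty_eq]
  refine xf_congr fun k _ => ?_
  show (m &&& r).testBit k = _
  rw [Nat.testBit_and]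

theorem pty_land_xor (m a b : ℕ) : pty (Nat.land m (a ^^^ b)) = xor (pty (Nat.land m a)) (pty (Nat.land m b)) := by
  rw [pty_land, pty_land, pty_land, ← xf_xor]
  refine xf_congr fun k _ => ?_
  rw [Nat.testBit_xor]
  cases m.testBit k <;> cases a.testBit k <;> cases b.testBit k <;> rfl

theorem pty_land_27 {m : ℕ} (hm : m < 2 ^ 27) (r : ℕ) :
    pty (Nat.land m r) = xf (List.range 27) fun k => m.testBit k && r.testBit k := by
  rw [pty_land, show List.range 32 = List.range 27 ++ [27, 28, 29, 30, 31] from rfl, xf_append]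
  rw [xf_false (l := [27, 28, 29, 30, 31]), Bool.xor_false]
  intro k hk
  have hk' : 27 ≤ k := by
    simp only [List.mem_cons, List.not_mem_nil, or_false] at hk
    omega
  rw [Nat.testBit_eq_false_of_lt (lt_of_lt_of_le hm (Nat.pow_le_pow_right (by norm_num) hk')), Bool.false_and]

theorem land_mod {m r n : ℕ} (h : r < 2 ^ n) : Nat.land (m % 2 ^ n) r = Nat.land m r := by
  apply Nat.eq_of_testBit_eq
  intro i
  show ((m % 2 ^ n) &&& r).testBit i = (m &&& r).testBit i
  rw [Nat.testBit_and, Nat.testBit_and, Nat.testBit_mod_two_pow]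
  by_cases hi : i < n
  · rw [decide_eq_true hi, Bool.true_and]
  · rw [Nat.testBit_eq_false_of_lt (lt_of_lt_of_le h (Nat.pow_le_pow_right (by norm_num) (Nat.le_of_not_lt hi)))]
    rw [Bool.and_false, Bool.and_false]

theorem mod_succ (m n : ℕ) : m % 2 ^ (n + 1) = m % 2 ^ n + 2 ^ n * (m.testBit n).toNat := by
  rw [pow_succ, Nat.mod_mul, Nat.testBit_eq_decide_div_mod_eq]
  have h := Nat.mod_two_eq_zero_or_one (m / 2 ^ n)
  rcases h with h | h <;> rw [h] <;> simp

/-- the value of a quadratic equation -/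
def eq1 (m : ℕ) (e : List ℕ) : Bool := xf e fun w => Nat.beq (Nat.land m w) w

theorem beq_pair (m a b : ℕ) : Nat.beq (Nat.land m (2 ^ a ||| 2 ^ b)) (2 ^ a ||| 2 ^ b) = (m.testBit a && m.testBit b) := by
  rw [Bool.eq_iff_iff, Bool.and_eq_true]
  constructor
  · intro h
    replace h := Nat.eq_of_beq_eq_true h
    have h1 : ∀ i, (m &&& (2 ^ a ||| 2 ^ b)).testBit i = (2 ^ a ||| 2 ^ b).testBit i := fun i => by
      rw [show m &&& (2 ^ a ||| 2 ^ b) = 2 ^ a ||| 2 ^ b from h]
    have h2 := h1 a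
    have h3 := h1 b
    simp only [Nat.testBit_and, Nat.testBit_or, Nat.testBit_two_pow_self, Bool.true_or, Bool.or_true,
      Bool.and_true] at h2 h3
    exact ⟨h2, h3⟩
  · rintro ⟨h2, h3⟩
    rw [Nat.beq_eq]
    show m &&& (2 ^ a ||| 2 ^ b) = 2 ^ a ||| 2 ^ b
    apply Nat.eq_of_testBit_eq
    intro i
    rw [Nat.testBit_and, Nat.testBit_or, Nat.testBit_two_pow, Nat.testBit_two_pow]
    by_cases ha : a = i
    · subst ha; rw [h2]; simp
    · by_cases hb : b = i
      · subst hb; rw [h3]; simp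
      · simp [ha, hb]

theorem eq1_mod {m n : ℕ} {e : List ℕ} (h : ∀ w ∈ e, w < 2 ^ n) : eq1 (m % 2 ^ n) e = eq1 m e :=
  xf_congr fun w hw => by rw [land_mod (h w hw)]

/-- a level of the search: the rows, the equations -/
abbrev Lev := List ℕ × List (List ℕ)

/-- the test of a level -/
def okl (a : Lev) (m : ℕ) : Bool := (a.1.all fun r => !pty (Nat.land m r)) && a.2.all fun e => !eq1 m e

/-- **the search** -/
def dfs (sol : List ℕ) : List Lev → ℕ → ℕ → Bool
  | [], _, m => sol.any fun s => Nat.beq s m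
  | a :: L, p, m => (!okl a m || dfs sol L (Nat.mul 2 p) m) &&
      (!okl a (Nat.add m p) || dfs sol L (Nat.mul 2 p) (Nat.add m p))

/-- the bounds of the levels -/
def bnd : List Lev → ℕ → Bool
  | [], _ => true
  | a :: L, p => ((a.1.all fun r => Nat.blt r (Nat.mul 2 p)) && a.2.all fun e => e.all fun w => Nat.blt w (Nat.mul 2 p)) &&
      bnd L (Nat.mul 2 p)

theorem dfs_sound {M : ℕ} {sol : List ℕ} : ∀ (L : List Lev) (n m : ℕ), dfs sol L (2 ^ n) m = true → M % 2 ^ n = m →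
    bnd L (2 ^ n) = true → (∀ a ∈ L, (∀ r ∈ a.1, pty (Nat.land M r) = false) ∧ ∀ e ∈ a.2, eq1 M e = false) →
    M % 2 ^ (n + L.length) ∈ sol
  | [], n, m, h, hm, _, _ => by
    obtain ⟨s, hs, h1⟩ := List.any_eq_true.1 h
    rw [List.length_nil, Nat.add_zero, hm, ← Nat.eq_of_beq_eq_true h1]
    exact hs
  | a :: L, n, m, h, hm, hb, hg => by
    have e2 : Nat.mul 2 (2 ^ n) = 2 ^ (n + 1) := by show 2 * 2 ^ n = _; rw [pow_succ, mul_comm]
    have hb1 := Bool.and_eq_true_iff.1 hb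
    rw [e2] at hb1
    have hb2 := Bool.and_eq_true_iff.1 hb1.1
    have hok : okl a (M % 2 ^ (n + 1)) = true := by
      unfold okl
      rw [Bool.and_eq_true_iff]
      constructor
      · rw [List.all_eq_true]
        intro r hr
        rw [land_mod, (hg a List.mem_cons_self).1 r hr]
        · rfl
        · exact Nat.blt_eq.mp (List.all_eq_true.1 hb2.1 r hr)
      · rw [List.all_eq_true]
        intro e he
        rw [eq1_mod, (hg a List.mem_cons_self).2 e he]
        · rfl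
        · intro w hw
          exact Nat.blt_eq.mp (List.all_eq_true.1 (List.all_eq_true.1 hb2.2 e he) w hw)
    have h1 := Bool.and_eq_true_iff.1 h
    rw [e2] at h1
    have hM := mod_succ M n
    have key : dfs sol L (2 ^ (n + 1)) (M % 2 ^ (n + 1)) = true := by
      cases hbit : M.testBit n
      · rw [hbit, Bool.toNat_false, mul_zero, add_zero, hm] at hM
        have h2 := h1.1
        rw [← hM, hok] at h2
        simpa using h2
      · rw [hbit, Bool.toNat_true, mul_one, hm] at hM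
        have h2 := h1.2
        have e3 : Nat.add m (2 ^ n) = M % 2 ^ (n + 1) := hM.symm
        rw [e3, hok] at h2
        simpa using h2
    have h3 := dfs_sound L (n + 1) (M % 2 ^ (n + 1)) key rfl hb1.2 fun b hb => hg b (List.mem_cons_of_mem _ hb)
    rw [List.length_cons, show n + (L.length + 1) = n + 1 + L.length by ring]
    exact h3

/-- the combination `c` of the rows -/
def comb : List ℕ → ℕ → ℕ
  | [], _ => 0
  | r :: R, c => Nat.xor (cond (Nat.beq (Nat.land c 1) 1) r 0) (comb R (Nat.shiftRight c 1))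

theorem pty_comb {M : ℕ} : ∀ (R : List ℕ) (c : ℕ), (∀ r ∈ R, pty (Nat.land M r) = false) →
    pty (Nat.land M (comb R c)) = false
  | [], _, _ => by
    show pty (Nat.land M 0) = false
    rw [pty_land]
    exact xf_false fun k _ => by rw [Nat.zero_testBit, Bool.and_false]
  | r :: R, c, h => by
    show pty (Nat.land M (_ ^^^ _)) = false
    rw [pty_land_xor, pty_comb R _ fun s hs => h s (List.mem_cons_of_mem _ hs), Bool.xor_false]
    cases Nat.beq (Nat.land c 1) 1
    · show pty (Nat.land M 0) = false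
      rw [pty_land]
      exact xf_false fun k _ => by rw [Nat.zero_testBit, Bool.and_false]
    · exact h r List.mem_cons_self

/-- the rows of the five basis elements -/
noncomputable def BR : List (List ℕ) :=
  (by
  refine (?fq9001 : ((pk61l (fun i1 => (pk61l (fun i2 => (pk61d (nat_lit 27) 
    (nat_lit 0x88200011010002020020404000480280010000112000000282000050040008088001000001200000022002004400004800800100010120000002088000400004080000008800001050000200000028000004100000800080080200010010102000000202000040040004004400800000080800010000001004000200000022000004040000400400080000008820001101000200a00040000005040000a008001011000200000020800002088000400000041400008000000880000100000014000001000000080000008000000800000080000008000000) (pk61d (nat_lit 6) 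
    (nat_lit 0x38fe7fb7c6294aef6c6eaa79627c72442471820c0ce1f6616df35c9a31e3c05de6daeb5c2da66921800bf48e8aecae821970e49661545d71961440e34be7402ca400007dd6c05d300000a0001800040c203902f02902301f01b01700f00c008006005003001) i2))) (Nat.mul (nat_lit 27) i1) (Nat.mul (nat_lit 27) (Nat.succ i1)) List.nil)) (nat_lit 0) (nat_lit 5) List.nil) : List (List ℕ))
    = ?xq9001 → (List (List ℕ))) ?hq9001; (case hq9001 => (set_option maxRecDepth 1000000 in set_option simprocs false in conv => lhs; reduce; dsimp only)); intro _; exact ?xq9001 : List (List ℕ))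

/-- the rows of the Cartan part of `[T, zT]` -/
def CM : List ℕ := [44651690, 57521883, 16547391, 95869805, 134217216, 38460050, 0, 0]

/-- the quadratic equations of `[T, gT] = 0` : `(g, root, equation)` -/
noncomputable def EQl : List (ℕ × ℕ × List ℕ) :=
  (by
  refine (?fq9002 : ((pk61l (fun i1 => (_root_.Prod.mk (pk61d (nat_lit 2) 
    (nat_lit 0x3fffffffffffffaaaaaaaaaaaaa95555555555555000000000) i1) (_root_.Prod.mk (pk61d (nat_lit 8) 
    (nat_lit 0xeae9e8e7e1e0c1b7a16a6964635e5d595848474342191814130d0ce6e5e4dfdedddad9d855545251504f3f3e3c3b3a3935343231302fedecebd5d4d1cbcac7767573726f6e2c2b2a2927262221201f1d1cccc2a3a28d877f7e7b74717068624d4c2d23) i1) ((fun g1 : Nat → Nat => pk61l (fun i2 => (pk61d (nat_lit 27) (Nat.add 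
    (nat_lit 0x10010000201000200000420000060000002400000600000018000009004004000404000020080002080000101000011020000102000100100002010002000800040080040000024000006000000180000090000001800001080900004008000010800080040000204001000200004100000a00000022000011000000140000208020800005000000110000088000000a000010400008001000408000040020002100000200400012000008008040000400100040800002002000210000010001200008010000021000100080000408002000408800008080000104000100400002020002002000021000003000000120000030000000c0000048010800001800000090000018000000600000240000400100040100002002000202000010040001040000800400800040010002010000200200010200001000110000101000002080002008000040400040044100004010000080800080080001004001000400004800000c000000300000120000003000002100240000060000001800000900000018000010800008008000808000040100004100000202000022000040008040000800800040800004010000210000020008200008020000101000100100002008002000980000006000000180000006000000180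0000060000001800000060000001e000000180000006000000180000006000000180000006000000180000006900000090000009000000024000002400000240000000900000090000009024000002400000240000000900000090000009000000024000002400000268000000a00000028000000a00000028000000a00000028000000a0000002c10000041000004100000010400001040000104000000410000041000004100402000040200004020000402000040200004020000402000040200004030000401000040100004010000401000040100004010000401000040100006010000201000020100002010000201000020100002010000201000020100402000040200004020000402000040200004020000402000040200004020080002008000200800020080002008000200800020080002008000200800020080400008040000804000080400008040000804000080400008040000806080000208000020800000082000008200000820000002080000208000020d000000140000005000000140000005000000140000005000000140000005120000012000001200000004800000480000048000000120000012000001320000012000001200000004800000480000048000000120000012000001230000000c00000030000000c00000030000000c00000030000000c000000330000000c00000030000000c00000030000000c00000030000000c0000003)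 (Nat.shiftLeft (Nat.add 
    (nat_lit 0x2040001080000000600008010400100014000000080800022000000014000100481000042000000018000200400000042001000082020000880000000500004010000000880020002040008001200000008040001200000001200008041000100044000000200800028000000044000101201000048000000048000201000000048001000208020000a00000001100004040000000a00020008080008040400000010040200080000002201000012000100810000000400804002000000084020000600008041000000040040200200000008201000048000100840000001000804008000000204020001020008000a00000004040001100000000a000080208001000240000001008000240000000240001009010000440000000280002008000000440010001040200009000000009000040200000009000200041000080408000000200402001000000042010000240001008200000008008040040000001040200008440000040040004000040410000001400000100400880000008800000800808002000008200000028420000040020004000020400080000408000000c03000000201000020001010080000018000000810020400000060000004020200010000201000000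302800000200800020000810000400010040000016040000200040020000040480000008400000800400c0000004080000400080801000000900000010a020000200020020000020400400000440000004450000001040000100040400400000440000004400600000040200004000202010000003000000102020080000028000000820200002000200200000220102000000300000020101000080001008000001830000001020000100020400002000400200000420500000040100004000102000080002008000002842000000240000020040400080000408000000c002800000082000008002020020000022000000220200100000210000001202000004002000400002041004000001400000041010000100010010000011220000002200000200204000004004000400004041800000081000008001020000100020010000021c000000804000080004040200000060000002040220000020020002000020208000000a0000008020204000000600000040202000100002010000003001100000011000001001010004000010400000050a00000080200008000204000100004010000005021000002001000200001020004000020400000060004000800204000020010001080000100200009020000021000100100000408002000800008040040000020800005000000110000088000000a000010400800200080200004004000404000020080002084000008400008020000102000)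 (Nat.shiftLeft 
    (nat_lit 0x4000800120000000804000120000000120000804804000120000000120000804000000120004000810000800420000002004000180000000420000812004000180000000420000810000000180004002020000804100000004004020020000000820100006000020110000000400100802000000080804000408000800220000001004000140000000220000809004000140000000220000808000000140004001040000804200000008004020040000001020100008100080006) (nat_lit 8000))) (nat_lit 8000))) i2)) (g1 i1) (g1 (Nat.succ i1)) List.nil) fun j => (pk61d (nat_lit 10) 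
    (nat_lit 0xa22829f2769c26a9925e96252932469023a8d22e8a222872168420a811fe7e1f27b1e6781da751ce721c26f1b66c1aa6919e66192631866017a5d16e5a162571565414a5113e4e1324b1264811a4510e421023f0f63c0ea390de360d2330c6300ba2d0ae2a0a22649021c7e1d46c18c5a144480fc360b42406c1202400) j))))) (nat_lit 0) (nat_lit 99) List.nil) : List (ℕ × ℕ × List ℕ))
    = ?xq9002 → (List (ℕ × ℕ × List ℕ))) ?hq9002; (case hq9002 => (set_option maxRecDepth 1000000 in set_option simprocs false in conv => lhs; reduce; dsimp only)); intro _; exact ?xq9002 : List (ℕ × ℕ × List ℕ))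

/-- the equations by levels -/
noncomputable def QB : List (List (List ℕ)) :=
  (by
  refine (?fq9003 : ((pk61l (fun i1 => ((fun g1 : Nat → Nat => pk61l (fun i2 => ((fun g2 : Nat → Nat => pk61l (fun i3 => (pk61d (nat_lit 27) (Nat.add 
    (nat_lit 0x14000000410100001000100100000110400200000420000002404000008004000800004090200000030000002010100008000100800000180800001080001004000020400020020000402000421000003000000120000030000000c00000480000800200080200004004000404000020080002080030000000c00000030000000c00000030000000c00000030000000c0000003201000048000000048000201000000048001000208000201040000001001008008000000208040001100008004200000020040001800000004200008104000800120000000804000120000000120000804100010004400000020080002800000004400010104400000400400040000404100000014000001004108000010008001000008100020000102000000306000000402000040002020100000030000001020140000010040001000040800020000802000000a02800000082000008002020020000022000000220060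00000204000020004080000400080040000084088000080800001040001004000020200020020002001002000100040008040000800800040800004480000048000004800000012000001200000120000000480000048000004840004001100000008020000a0000000110000404100040005000000020200008800000005000040104000800120000000804000120000000120000804081000000180000010080800040000804000000c020080000028000000820200002000200200000220880000008800000800808002000008200000028020004000900000004020000900000000900004020800400030000000102000084000000030000400820008000a00000004040001100000000a000080206000000402000040002020100000030000001020140000010040001000040800020000802000000a011000000110000010010100040000104000000500408000000c0000008040400020000402000000601800000081000008001010020000012000000210020004001020000100080008400000801000048000800800080800004010000410000020200002200020800005000000110000088000000a0000104000002400010020000042000200100000810004000802400000600000018000009000000180000108000010400010040000202000200200004010004001002010000201000020100002010000201000020100002010000201000020100200080020080001001000101000008020000820008400000c0000004800000c0000003000001200000110000101000002080002008000040400040040000820000140000004400002200000028000041000024000006000000180000090000001800001080000420000060000002400000600000018000009)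 (Nat.shiftLeft 
    (nat_lit 0x10020000c00000002100004080000000c00020010400004022000000080020100400000010100800084080002100000000c0001002000000210008000440200009000000009000040200000009000200041004000140000000220000808000000140004001010001008080000002008040010000000440200003000040208000000200201001000000041008000240000804200000008004020040000001020100008808000220000000140001004000000220008000820001008100000004008040020000000840200005020000100020010000020240000004200000400240400004000400400000408008000008800000088a0000002080000200080800800000880000008801800000081000008001020000100020010000021084000000480000040080800100000810000001801100000011000001001020000020020002000020380000010080001000080804000000c00000040804400000400400040000404100000014000001004140000010040001000040800020000802000000a0420000040020004000020400080000408000000c10000010800080080000204001000400004020020400002040002002000040200040010000801000800480002004000008400040020000102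0008001004100000a00000022000011000000140000208000100020008100000800400042000004008000240000100100800008002000810000040040004200000220800020080000404000400400008020008002004800000c0000003000001200000030000021000010010001010000080200008200000404000044000080010080001001000081000008020000420000050080001008000100800010080001008000100800010080001008000100802000080200008020000802000080200008020000802000080200008020000c100000410000041000000104000010400001040000004100000410000041a00000028000000a00000028000000a00000028000000a00000028000000b20000012000001200000004800000480000048000000120000012000001230000000c00000030000000c00000030000000c00000030000000c0000003200800028000000044000101000000028000800208000100840000001000804008000000204020001101000044000000028000200800000044001000104000201020000000801008004000000108040000a0100004800000004800020100000004800100020800020104000000100100800800000020804000110040) (nat_lit 8000))) i3)) (g2 i2) (g2 (Nat.succ i2))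 List.nil) fun j => (pk61d (nat_lit 10) 
    (nat_lit 0x2378c62b8961f8661383607805fb7d5ef7a5e3775d7745cb715bf6e5b36b5a76859b6558f625835e9715a15f5594d51d414ed354bd2948d1d45d1142d053f0f63c0ea390de360d2330c6300ba2d0ae2949f26493234872047b1d46f1a463174571444b1143f0e4330b424078180480c01800) j))) (g1 i1) (g1 (Nat.succ i1)) List.nil) fun j => (pk61d (nat_lit 7) 
    (nat_lit 0xb4d94a736549101a34304080c183060c18100000000000000) j))) (nat_lit 0) (nat_lit 27) List.nil) : List (List (List ℕ)))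
    = ?xq9003 → (List (List (List ℕ)))) ?hq9003; (case hq9003 => (set_option maxRecDepth 1000000 in set_option simprocs false in conv => lhs; reduce; dsimp only)); intro _; exact ?xq9003 : List (List (List ℕ)))

/-- the rows by levels -/
noncomputable def RL : List (List (List ℕ)) :=
  (by
  refine (?fq9004 : ((pk61l (fun i1 => (pk61l (fun i2 => ((fun g2 : Nat → Nat => pk61l (fun i3 => (pk61d (nat_lit 27) 
    (nat_lit 0x5b6db6d806820100d00020100f2402014480401c9008011200a080401400080003c9000051200007240000448000000c00000154aa55203a080406400080a82010110002010152402008480004490000012000000389c4e26a552a8b6db6d9011040201039240207048040c49008181200200040005248000a09000109200020240000007e3f1f8c4e2711200000209a08041300008228201044000201047040200608001181000010200000036db6d8440000082e820105800020aa080414000080417410082a820100d040200a080016010002802000080400000071389c0b0000014aa55028000004164100828820104800020800004020f208041c410081c820103104000d008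001801000140200020038e38e0703fe00a954a8104404020124e040249408049181009210200800040041c08008281001030200202040000007239180dc71c01a4ada02b6db40552a90082e02010540402030000404000080497010092a020124c04024880800860100108020020804004000554aa0082c020105004020127804024e008040001001140200220040000007fffe00db36c0155550024f270049e46009081001038380207030040400008068001008000200a00040000007239000974b8012e95002552e004aa540093010012202002190c00432100084430010884002080000405400080200010000001b95400322a8004f278009e4e0013c0200276c4004e550009c4f001389c00270040045228008a44001140000222a800442280088440011000002032000406000080880010100001f8fc003e1b8007208000dc7c001b0d80031040005a2d000b04a00140000025160004824000822800100100020000003f3c00076da000d86c001a080002e3a0005450000882800105d00020aa000403400080280010000001e3900035b6000636c000c1000014aa00028880005044000a08000140a00020b2000414400080c800101100020000003b6c00074a8000e380001aec00032540006370000c30000172c00029dc0005140000927000104c000209000041100008200000ea60001c3400030180005b60000aa0000105c00020a80004130000822000100000017700002ab00005540000a84000150000024c00004160000828000102000020000003ec00007d00000f280001b6000028a00004440000880000109000020000003b800007280000e4000017600002d400005800000ab0000154000029000005180000a20000142000028000002f800005e00000a2000013800002400000440000080000006c00000d000001500000220000040000006800000a0000010000001c00000300000050000008000000c0000010000001)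 (pk61d (nat_lit 9) 
    (nat_lit 0x8ec3202f273b5d92b856a912c833b198a8401c0bc482007020051b8640de4e66bb2d70ac51a6108732b1205a260b8481005008023b0c81bc9ced665add5aa34ba20ea622b91476311386c260c0246e190179399acc95bab14899449c8cd17853f1e0e369b1168aa5024d027033150803d178881d15853f9e0e269b1968a950a45006d311708c3e1a8a84214068240c028bc29fcf071b498cb355285247d37990ac431d0b84c1c0a82c0e0600c5614fc78389a4c459aa540903e1b0cc54200e05e2b1003810028fc3a08f475b6d98bc57a791c7835984a6411d0bc54210a03412060147e21047b3adb4cc5dabd388e3d1acc053218e85c290e0541607030063310823d9d2db662f15c9e471e8d6612910c722f1388a330e823d1d2da662ed5c9c471e0d66029104722e1386c260c0247a1aff79ba9b2c75d2ad368c451a4ba5a250f058250e8440e05008023d0f7fbd5d4d863ae556a6429304a1608816310f7fbd5d0d963ae9509b461f8d25d2d934782c128741e0701804011886bfde6e86c31d72a84da3116692e93858250b03c0e0300802390b803c5cad5642d95aa24aa1ce8652c9247e32148702a0b03818031a85c09e2e46ab296cac512510e713293068280b0480b1c85c09e2e56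a3296aad51255047431954823a178983e14068240c028d42e00f17235190b55628928823895490301305c240802804011684beddee168b0d64aa4fa3cfe6e2e93c88361a88c300f0502006008a425faef703458ab254a7d187f349749e4b1b0cc46190782810030045a12fd77b85a0c558aa93e8f3d9b8ce582645212fb77b81a0c358aa53e8c3d9a4d04f238d846220782806009044a0cf7763719e9d469dcd45f28900702f89c21f4ee7637984be5826d1a7935178a2421c0b8461e080280e010044e24fa7bbb1bcc25f2c13a8d3c9a8be50210dc5e230d04014070080241087d3b9d8dc612fd368d3b9a8bc50200dc5c23110280e010048210fa773b5bac26026d345d278d858230501c020089c220aee703759ac15426d188634974580f0380c031388be9f0e06fb097aa852a30d24f1b08c1e0a01802411183be59ca7) i3))) (g2 i2) (g2 (Nat.succ i2)) List.nil) fun j => (pk61d (nat_lit 10) (Nat.add 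
    (nat_lit 0x9ee7a9e6789de769d6749ce729c6719c2709be6f9be6e9b66c9ae6a9a66899e669966498e62986619866198661986619866198661986619825f97a5d9725b96a599625795a559525394a519424f93e4e93a4e9364d9364d9364c92e4a9264891e469164490e42906408fe3e8f63c8ee3a8e6388e2378da358d2348ce328c6308be2e8b62c8ae2a8a62889e268962488e228862087e1f87a1d8721b86e1a8661885e168561484e128461083e0e8360c82e0a8260881e0781e06816058120480e02806007fdfe7f5fc7edfa7e5f87ddf67d5f47cdf27c5f07bdef7b9ed7b1eb7adea7a5e879de6795e478de2785e077dde775dc76dda765d875dd6759d5751d3749d2745d073dce735cc72dca725c871dc6715c470dc2705c06fdbe6f9be6f9be6f9be6f9bd6f1bb6e9b96e1b76d9b56d1b36c9b16c1af6b9ad6b1ab6a9a96a5a86a1a769da7699a5691a3689a16819f6799d6719b6699966197659956519364992649916418f6398d6318b6298962187619856118460d8360d8360982609816017f5fd7f5fd7e5f97e5f57c5ed7a5e5785dd765d5745cd725c5705bd6e5b56c5ad6a5a5695a56859d665956458d625856057d5e5755c56d5a5655855d57559565555454d52549525455053d4e5354c52d4a5254851d4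65154450d42505404fd3e4f53c4ed3a4e5394e1374d9354d5344cd324c5304bd2e4b52c4ad2a4a52849d27499264952448d224892248921485214811f4791d4711b46919461174591545113449114410f4390d4310c42d0a4250842107419054110340901400ff3f8fd3f0fb3ecfa3e4f93e0f73d8f53d4f53d0f33c8f13c0ef3b8ed3b0eb3a8e93a0e7398e5390e3388e1380df378dd370dc36cda364d9360d7358d5350d3348d1340cf338cd330cb328c9320c7318c5310c330cc2304c0300bf2f8bd2f0bb2e8b92e0b72d8b52d0b32c8b12c0af2bcaf2bcaf2bcaf2bcaf2bcaf2bcae2b4ac2acaa2a4a829ca6294a428ca2284a027c9e2789d2709b26c9a268992649825c962549424c92244912449023c8e2348c22c8a2248822088220882208822088220872188521083208812007f1f87d1f07b1e8791e0771d8751d0731cc721c4711c06f1b86d1b06b1a8691a0671986519063188611805f1785d1705b1685a16458160571585515053148511404f1384e1344c12c4a1244811c461144410c4310c42104411003f0f83d0f03b0e8390e0370dc360d4350d4340cc330c8310c0300c0300bc2e0b82d0b02b0a8290a0270982509023088210801f0781e0781e0741d0741c0701c06c1a06419060170581505013048110400f0380e0340d0300c02c0b0280a024090200801c070180501003008020080100401000000000000000000000000000000000000000000000)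 (Nat.shiftLeft 
    (nat_lit 0x2b4aceb2ac6b0abeaeab6acaaeaaaa6a8a9ea6a96a4a8ea2a86a0a82a0a7e9ea7a9da769ca6e9aa6698a5e96a5694a4e92a4690a428fa3a8ea368ca2e8aa2a8aa2688a1e86a1684a0e82a06809fe7e9f67c) (nat_lit 8000))) j))) (Nat.mul (nat_lit 27) i1) (Nat.mul (nat_lit 27) (Nat.succ i1)) List.nil)) (nat_lit 0) (nat_lit 32) List.nil) : List (List (List ℕ)))
    = ?xq9004 → (List (List (List ℕ)))) ?hq9004; (case hq9004 => (set_option maxRecDepth 1000000 in set_option simprocs false in conv => lhs; reduce; dsimp only)); intro _; exact ?xq9004 : List (List (List ℕ)))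

/-- their combinations -/
noncomputable def CB : List (List (List ℕ)) :=
  (by
  refine (?fq9005 : ((pk61l (fun i1 => (pk61l (fun i2 => ((fun g2 : Nat → Nat => pk61l (fun i3 => (pk61d (nat_lit 33) 
    (nat_lit 0x1c0000000bf6200004710718721000e00100000e95800007493a0000001b7000000cc1053f666062013b2070000182100000a00baa3850055002a80003f01200032488d5400003e4000001d0017334e0029b12654000002a20a60014a08b000a03fd702500f5203280111db11e1000008c280000401ea2f3200ec84b9006539248021204c4000016d200000000e400000067200000328000e4188800720c0055b9060002dc82e826a001661a5000a9000000503ab15a2805ec261401aa4a8804124704017c15c2008554d10003ff68800000fc400000001b1800710d4c0038864000000300000001682f6000a61eb000520b58002600000012000000080ee2038404356d82017c09410099de708044c0104012e3082007f9b6100354db0800dbf384006d8002000edb6100066db0800036d84000036c172800000a8000000501ba0002809d000122801540914000004884e770240000001032777c0818d11e040ad29f0205437281003fcaa080154000400a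05502002f2a810013954080014aa040000550200000000818803e040c08200201a00001005000008000288040000440200000000c00000004064000020220000100000000450082c02202dca0110020b008000a0804000404020000000090000000413000002088000010000000041620b0020b105001058000008280000040201a002000080010000000031a36800186fb4000a729a0005165a80020124a00100923000800838004004140020020600100101000800000003a56280017c122000bc365000550e280020aa44001055000008049700040248800200210001000000005deaa0002a07780015013800082c9c0004164500020a278001051140008049e00040200000200228001001100008000000036c00000153000000a954800052a94000223110001110000008743800040200000200000000ef7780005d8000002ad56000156000000a15080005080000020800000100000000723900003700000017cbe0000bc0000004e2700002700000011088000080000000380000001b0d80000c00000005a2d00002800000012090000080000000361b0000100d00000802800004000000012090000080c80000404400002000000008040000040000000104c00000822000004020000020000000082c0000041400000201000001000000004000000010000000048000000200000000800000002000000008000000030000000100000000400000001)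 (pk61d (nat_lit 8) 
    (nat_lit 0xa090706050402010014100c181e27584c41b86d797bcf0a090706050402010014100c181c22d4382f277b4c97640a090706050402010014100c181c27203a2f4f478ea6cb0a090706050402010014100c181c0a090706050402010014100c181c2557393e6e520a090706050402010014100c181c222b363350485b83ac96c10a090706050402010014100c18201c574a3f38312981aaba9a0a090706050402010014100c181e25554a3eb96c7887d0342c241d1915130f0b0a09070605040201004e435a82ad9bc0342c241d1915130f0b0a09070605040201004e455c85a8bc98342c241d1915130f0b0a09070605040201004d44342c241d1915130f0b0a09070605040201004d4293a7cc342c241d1915130f0b76718a67619fafc23d06050407010200342c241d1915130f0b9280d506050401342c241d1915130f0b7770806662a0b0c34006050408010300342c241d1915130f0b76708b66619e3d060504070102d60a0907060504020100130f0b15191d2a3b2e51465d84a9bb990a0907060504020100130f0b151923303c60264b0a0907060504020100130f0b151f19594b413732287eab94bf0a0907060504020100130f0b151921d3372e267d4b95630a0907060504020100130f0b15191d902cb274c56b5e7c563e0a0907060504020100130f0b15191f912db175c66a5f7f543f0a0907060504020100130f0b158fb1ca0a0907060504020100130f0b158f1dc92c74b16a5e543eb7698653493dce0a090706050402010073697253493d68be880a090706050402010035a4b41b16110e73696f53493d65bd8d0a090706050402010034a3b31a17120db7696f53493d65cd0a090706050402010034891a16110db76f69659d8c53d134b519150f0b0a05040100736f9c655e8caec73d342cd71d190b07040201737a69a25eb653c43dc82c1d150f0a07050200b77aa1a5d2d8)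 i3))) (g2 i2) (g2 (Nat.succ i2)) List.nil) fun j => (pk61d (nat_lit 10) (Nat.add 
    (nat_lit 0x9ee7a9e6789de769d6749ce729c6719c2709be6f9be6e9b66c9ae6a9a66899e669966498e62986619866198661986619866198661986619825f97a5d9725b96a599625795a559525394a519424f93e4e93a4e9364d9364d9364c92e4a9264891e469164490e42906408fe3e8f63c8ee3a8e6388e2378da358d2348ce328c6308be2e8b62c8ae2a8a62889e268962488e228862087e1f87a1d8721b86e1a8661885e168561484e128461083e0e8360c82e0a8260881e0781e06816058120480e02806007fdfe7f5fc7edfa7e5f87ddf67d5f47cdf27c5f07bdef7b9ed7b1eb7adea7a5e879de6795e478de2785e077dde775dc76dda765d875dd6759d5751d3749d2745d073dce735cc72dca725c871dc6715c470dc2705c06fdbe6f9be6f9be6f9be6f9bd6f1bb6e9b96e1b76d9b56d1b36c9b16c1af6b9ad6b1ab6a9a96a5a86a1a769da7699a5691a3689a16819f6799d6719b6699966197659956519364992649916418f6398d6318b6298962187619856118460d8360d8360982609816017f5fd7f5fd7e5f97e5f57c5ed7a5e5785dd765d5745cd725c5705bd6e5b56c5ad6a5a5695a56859d665956458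d625856057d5e5755c56d5a5655855d57559565555454d52549525455053d4e5354c52d4a5254851d465154450d42505404fd3e4f53c4ed3a4e5394e1374d9354d5344cd324c5304bd2e4b52c4ad2a4a52849d27499264952448d224892248921485214811f4791d4711b46919461174591545113449114410f4390d4310c42d0a4250842107419054110340901400ff3f8fd3f0fb3ecfa3e4f93e0f73d8f53d4f53d0f33c8f13c0ef3b8ed3b0eb3a8e93a0e7398e5390e3388e1380df378dd370dc36cda364d9360d7358d5350d3348d1340cf338cd330cb328c9320c7318c5310c330cc2304c0300bf2f8bd2f0bb2e8b92e0b72d8b52d0b32c8b12c0af2bcaf2bcaf2bcaf2bcaf2bcaf2bcae2b4ac2acaa2a4a829ca6294a428ca2284a027c9e2789d2709b26c9a268992649825c962549424c92244912449023c8e2348c22c8a2248822088220882208822088220872188521083208812007f1f87d1f07b1e8791e0771d8751d0731cc721c4711c06f1b86d1b06b1a8691a0671986519063188611805f1785d1705b1685a16458160571585515053148511404f1384e1344c12c4a1244811c461144410c4310c42104411003f0f83d0f03b0e8390e0370dc360d4350d4340cc330c8310c0300c0300bc2e0b82d0b02b0a8290a0270982509023088210801f0781e0781e0741d0741c0701c06c1a06419060170581505013048110400f0380e0340d0300c02c0b0280a024090200801c070180501003008020080100401000000000000000000000000000000000000000000000)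 (Nat.shiftLeft 
    (nat_lit 0x2b4aceb2ac6b0abeaeab6acaaeaaaa6a8a9ea6a96a4a8ea2a86a0a82a0a7e9ea7a9da769ca6e9aa6698a5e96a5694a4e92a4690a428fa3a8ea368ca2e8aa2a8aa2688a1e86a1684a0e82a06809fe7e9f67c) (nat_lit 8000))) j))) (Nat.mul (nat_lit 27) i1) (Nat.mul (nat_lit 27) (Nat.succ i1)) List.nil)) (nat_lit 0) (nat_lit 32) List.nil) : List (List (List ℕ)))
    = ?xq9005 → (List (List (List ℕ)))) ?hq9005; (case hq9005 => (set_option maxRecDepth 1000000 in set_option simprocs false in conv => lhs; reduce; dsimp only)); intro _; exact ?xq9005 : List (List (List ℕ)))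

/-- the solutions -/
noncomputable def SOL : List (List ℕ) :=
  (by
  refine (?fq9006 : ((pk61l (fun i1 => ((fun g1 : Nat → Nat => pk61l (fun i2 => (pk61d (nat_lit 27) 
    (nat_lit 0x3fdfed87fbfc00fc7e361f8fc003df45f7fbc01efe3d178fc70071f6db6d86db6c00d86c361b0d80035745775b68b6db6802db5e776c28b45a2d14014588280010100111dd5ed83ba8bab5551554aa002a941100020a8a8241001044e276c09c4e0012091b0241200044004045145140a000280dbfdfe1b7abb836ee7a86dc8e40db6db61b60300363f1f86c48240d86c361b000000c06d80180c000051400007fbfc00e472001b6db0030180001f8fc002412000361b000441400050440000d80000000) (pk61d (nat_lit 6) 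
    (nat_lit 0x4d2450289100e37c6e75c340d33b288a0640e76d72c2fae98a075c6574903cd2481805d240f2481800004d2450289100000d72ae98a0640d33b288a0640039e37db1c2fbad79d71b58d30100079d71b34c040039db0bdd70d000e37c6e75c340000d74cf2b2baa9a238a07d96152c08e281f6582c09645d44d24503ce28920718510000051240e2471409e651240e24714079d71b68d3020408e28607d960b0c0) i2))) (g1 i1) (g1 (Nat.succ i1)) List.nil) fun j => (pk61d (nat_lit 8) 
    (nat_lit 0xd6cec6bea8a09f9e9695948c8483717068675f5e565554423a2827261e140a0000) j))) (nat_lit 0) (nat_lit 32) List.nil) : List (List ℕ))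
    = ?xq9006 → (List (List ℕ))) ?hq9006; (case hq9006 => (set_option maxRecDepth 1000000 in set_option simprocs false in conv => lhs; reduce; dsimp only)); intro _; exact ?xq9006 : List (List ℕ))

/-- the equations of the square of the tensor: `(root, equation)` -/
noncomputable def SQl : List (ℕ × List ℕ) :=
  (by
  refine (?fq9007 : ((pk61l (fun i1 => (_root_.Prod.mk (pk61d (nat_lit 8) 
    (nat_lit 0xbcb9b8b2afae9c99986d6c6b67666561605f5c5b5a4b4a49464544) i1) (pk61l (fun i2 => (pk61d (nat_lit 27) 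
    (nat_lit 0x880000404000100400080020000004400002020000802000400100800400400020100002080000104400002020000802000400100000022000010100004010002000804002002000100800010400000800c00000420000800400400020000006000002100004002002000100802000400100800002400000100840000204000100200040020000004200001020000801000200100800200200020100001040000104200001020000801000200100000021000008100004008001000804001001000100800008200000801080000408000200400080040000008400002040001002000400201000400400040200002080000208400002040001002000400200000042000010200008010002001008002002000201000010400001000a0000022000080020020002000000500000110000400100100010080100020010080000120000010140000044000100040040004000000a0000022000080020020002010020004002010000024000002) i2)) (Nat.mul (nat_lit 4) i1) (Nat.mul (nat_lit 4) (Nat.succ i1)) List.nil))) (nat_lit 0) (nat_lit 27) List.nil) : List (ℕ × List ℕ))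
    = ?xq9007 → (List (ℕ × List ℕ))) ?hq9007; (case hq9007 => (set_option maxRecDepth 1000000 in set_option simprocs false in conv => lhs; reduce; dsimp only)); intro _; exact ?xq9007 : List (ℕ × List ℕ))

/-- the row `u` for the element `dm` -/
noncomputable def rowd (dm u : ℕ) : ℕ := (List.range 5).foldr (fun n v => Nat.xor (cond (dm.testBit n) ((BR.getD n []).getD u 0) 0) v) 0

/-- all rows for the element `dm` -/
noncomputable def raw (dm : ℕ) : List ℕ := ((List.range 27).map fun u => rowd dm u) ++ CM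

/-- the levels for the element `dm` -/
noncomputable def LV (dm : ℕ) : List Lev := List.zip (RL.getD dm []) QB

theorem pty_rowd {M : ℕ} (hM : M < 2 ^ 27) (dm u : ℕ) : pty (Nat.land M (rowd dm u)) =
    xf (List.range 5) fun n => dm.testBit n && xf (List.range 27) fun t => M.testBit t && ((BR.getD n []).getD u 0).testBit t := by
  unfold rowd
  induction List.range 5 with
  | nil =>
    show pty (Nat.land M 0) = false
    rw [pty_land]
    exact xf_false fun k _ => by rw [Nat.zero_testBit, Bool.and_false]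
  | cons n l ih =>
    rw [xf_cons, List.foldr_cons]
    show pty (Nat.land M (_ ^^^ _)) = _
    rw [pty_land_xor, ih]
    congr 1
    cases dm.testBit n
    · show pty (Nat.land M 0) = false
      rw [pty_land]
      exact xf_false fun k _ => by rw [Nat.zero_testBit, Bool.and_false]
    · rw [Bool.true_and]
      exact pty_land_27 hM _

/-- the rows of the levels are combinations of the rows -/
noncomputable def chkR (dm : ℕ) : Bool :=
  (List.zip (RL.getD dm []) (CB.getD dm [])).all fun a => (List.zip a.1 a.2).all fun b => Nat.beq (comb (raw dm) b.2) b.1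

/-- the shape of the lists -/
noncomputable def chkL (dm : ℕ) : Bool := Nat.beq (LV dm).length 27 && bnd (LV dm) 1 &&
  Nat.beq (RL.getD dm []).length (CB.getD dm []).length &&
  (List.zip (RL.getD dm []) (CB.getD dm [])).all fun a => Nat.beq a.1.length a.2.length

private theorem _root_.Cfsg.Agent.KO550f9fb.e0.{ku, kv} {α : Type kv} {M : List α → Sort ku} (φ : ∀ l, M l) {z : M List.nil} {s : ∀ a l, M l → M (List.cons a l)} (h0 : φ List.nil = z) (hs : ∀ a l, φ (List.cons a l) = s a l (φ l)) (l : List α) : φ l = @List.rec α M z s l := List.rec h0 (fun a l ih => (hs a l).trans (congrArg (s a l) ih)) l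
private noncomputable def _root_.Cfsg.Agent.KO550f9fb.k1.{ku0} : ((x0 : Sort (ku0+1)) → ((@List.{ku0} @x0) → ((x0 → @Bool) → @Bool))) := @(fun (x0 : Sort (ku0+1)) (x1 : @List.{ku0} @x0) (x2 : (x0 → @Bool)) => @List.rec.{(ku0+1), ku0} @x0 @(fun (x3 : @List.{ku0} @x0) => ((x0 → @Bool) → @Bool)) @(fun (x3 : (x0 → @Bool)) => @Bool.true) @(fun (x3 : x0) (x4 : @List.{ku0} @x0) (x5 : ((x0 → @Bool) → @Bool)) (x6 : (x0 → @Bool)) => @Bool.rec.{1} @(fun (x7 : @Bool) => @Bool) @Bool.false (@x5 @x6) (@x6 @x3)) @x1 @x2)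
private theorem _root_.Cfsg.Agent.KO550f9fb.e1.{ku0} : @List.all.{ku0} = @_root_.Cfsg.Agent.KO550f9fb.k1.{ku0} := by delta _root_.Cfsg.Agent.KO550f9fb.k1; funext a0 a1 a2; refine (congrFun (_root_.Cfsg.Agent.KO550f9fb.e0 (fun a1 a2 => @List.all.{ku0} a0 a1 a2) ?_ (fun c0 c1 => ?_) a1) a2 :) <;> (rfl')
private theorem _root_.Cfsg.Agent.KO550f9fb.e2.{ku} {M : Nat → Sort ku} (φ : ∀ n, M n) {z : M Nat.zero} {s : ∀ n, M n → M (Nat.succ n)} (h0 : φ Nat.zero = z) (hs : ∀ n, φ (Nat.succ n) = s n (φ n)) (n : Nat) : φ n = @Nat.rec M z s n := Nat.rec h0 (fun n ih => (hs n).trans (congrArg (s n) ih)) n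
private noncomputable def _root_.Cfsg.Agent.KO550f9fb.k3 : (@Nat → ((@List.{0} @Nat) → @List.{0} @Nat)) := @(fun (x0 : @Nat) (x1 : @List.{0} @Nat) => @Nat.rec.{1} @(fun (x2 : @Nat) => ((@List.{0} @Nat) → @List.{0} @Nat)) @(fun (x2 : @List.{0} @Nat) => x2) @(fun (x2 : @Nat) (x3 : ((@List.{0} @Nat) → @List.{0} @Nat)) (x4 : @List.{0} @Nat) => @x3 (@List.cons.{0} @Nat @x2 @x4)) @x0 @x1)
private theorem _root_.Cfsg.Agent.KO550f9fb.e3 : @List.range.loop = @_root_.Cfsg.Agent.KO550f9fb.k3 := by delta _root_.Cfsg.Agent.KO550f9fb.k3; funext a0 a1; refine (congrFun (_root_.Cfsg.Agent.KO550f9fb.e2 (fun a0 a1 => @List.range.loop a0 a1) ?_ (fun c0 => ?_) a0) a1 :) <;> (rfl')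
private noncomputable def _root_.Cfsg.Agent.KO550f9fb.k4 : (@Nat → @List.{0} @Nat) := @(fun (x0 : @Nat) => @Cfsg.Agent.KO550f9fb.k3 @x0 (@List.nil.{0} @Nat))
private theorem _root_.Cfsg.Agent.KO550f9fb.e4 : @List.range = @_root_.Cfsg.Agent.KO550f9fb.k4 := by delta _root_.Cfsg.Agent.KO550f9fb.k4; rewrite [← Cfsg.Agent.KO550f9fb.e3]; rfl'
private noncomputable def _root_.Cfsg.Agent.KO550f9fb.k6.{ku0, ku1, ku2} : ((x0 : Sort (ku0+1)) → ((x1 : Sort (ku1+1)) → ((x2 : Sort (ku2+1)) → ((x0 → (x1 → x2)) → ((@List.{ku0} @x0) → ((@List.{ku1} @x1) → @List.{ku2} @x2)))))) := @(fun (x0 : Sort (ku0+1)) (x1 : Sort (ku1+1)) (x2 : Sort (ku2+1)) (x3 : (x0 → (x1 → x2))) (x4 : @List.{ku0} @x0) (x5 : @List.{ku1} @x1) => @List.rec.{(max (ku1+1) (ku2+1)), ku0} @x0 @(fun (x6 : @List.{ku0} @x0) => ((@List.{ku1} @x1) → @List.{ku2} @x2)) @(fun (x6 : @List.{ku1} @x1) => @List.nil.{ku2} @x2) @(fun (x6 : x0) (x7 : @List.{ku0} @x0) (x8 : ((@List.{ku1} @x1) → @List.{ku2} @x2))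 (x9 : @List.{ku1} @x1) => @List.rec.{(ku2+1), ku1} @x1 @(fun (x10 : @List.{ku1} @x1) => @List.{ku2} @x2) (@List.nil.{ku2} @x2) @(fun (x10 : x1) (x11 : @List.{ku1} @x1) (x12 : @List.{ku2} @x2) => @List.cons.{ku2} @x2 (@x3 @x6 @x10) (@x8 @x11)) @x9) @x4 @x5)
private theorem _root_.Cfsg.Agent.KO550f9fb.e6.{ku0, ku1, ku2} : @List.zipWith.{ku0, ku1, ku2} = @_root_.Cfsg.Agent.KO550f9fb.k6.{ku0, ku1, ku2} := by delta _root_.Cfsg.Agent.KO550f9fb.k6; funext a0 a1 a2 a3 a4 a5; refine (congrFun (_root_.Cfsg.Agent.KO550f9fb.e0 (fun a4 a5 => @List.zipWith.{ku0, ku1, ku2} a0 a1 a2 a3 a4 a5) ?_ (fun c0 c1 => ?_) a4) a5 :) <;> [(funext b0; (rfl')); (funext b0; (cases b0 with | @nil  => (rfl') | @cons b0_0 b0_1 => (rfl')))]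
private noncomputable def _root_.Cfsg.Agent.KO550f9fb.k8.{ku0} : ((x0 : Sort (ku0+1)) → ((@List.{ku0} @x0) → (@Nat → @Option.{ku0} @x0))) := @(fun (x0 : Sort (ku0+1)) (x1 : @List.{ku0} @x0) (x2 : @Nat) => @List.rec.{(ku0+1), ku0} @x0 @(fun (x3 : @List.{ku0} @x0) => (@Nat → @Option.{ku0} @x0)) @(fun (x3 : @Nat) => @Option.none.{ku0} @x0) @(fun (x3 : x0) (x4 : @List.{ku0} @x0) (x5 : (@Nat → @Option.{ku0} @x0)) (x6 : @Nat) => @Nat.rec.{(ku0+1)} @(fun (x7 : @Nat) => @Option.{ku0} @x0) (@Option.some.{ku0} @x0 @x3) @(fun (x7 : @Nat) (x8 : @Option.{ku0} @x0) => @x5 @x7) @x6) @x1 @x2)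
private theorem _root_.Cfsg.Agent.KO550f9fb.e8.{ku0} : @List.get?Internal.{ku0} = @_root_.Cfsg.Agent.KO550f9fb.k8.{ku0} := by delta _root_.Cfsg.Agent.KO550f9fb.k8; funext a0 a1 a2; refine (congrFun (_root_.Cfsg.Agent.KO550f9fb.e0 (fun a1 a2 => @List.get?Internal.{ku0} a0 a1 a2) ?_ (fun c0 c1 => ?_) a1) a2 :) <;> [(funext b0; (rfl')); (funext b0; (cases b0 with | @zero  => (rfl') | @succ b0_0 => (rfl')))]
private noncomputable def _root_.Cfsg.Agent.KO550f9fb.k9 : (by first | exact type_of% @Cfsg.Agent.H865.L34.comb | exact Unit : Sort _) := by first | (refine @Subtype.val _ (fun g => @Cfsg.Agent.H865.L34.comb = @g) (@Subtype.mk _ _ (@(fun (x0 : @List.{0} @Nat) (x1 : @Nat) => @List.rec.{1, 0} @Nat @(fun (x2 : @List.{0} @Nat) => (@Nat → @Nat)) @(fun (x2 : @Nat) => nat_lit 0) @(fun (x2 : @Nat) (x3 : @List.{0} @Nat) (x4 : (@Nat → @Nat)) (x5 : @Nat) => @Nat.xor (@Bool.rec.{1} @(fun (x6 : @Bool) => @Nat) (nat_lit 0) @x2 (@Nat.beq (@Nat.land @x5 (nat_lit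 1)) (nat_lit 1))) (@x4 (@Nat.shiftRight @x5 (nat_lit 1)))) @x0 @x1)) ?_); funext a0 a1; refine (congrFun (_root_.Cfsg.Agent.KO550f9fb.e0 (fun a0 a1 => @Cfsg.Agent.H865.L34.comb a0 a1) ?_ (fun c0 c1 => ?_) a0) a1 :) <;> (rfl')) | exact @Cfsg.Agent.H865.L34.comb | exact ()
private theorem _root_.Cfsg.Agent.KO550f9fb.e9 : (by first | exact @Cfsg.Agent.H865.L34.comb = @_root_.Cfsg.Agent.KO550f9fb.k9 | exact True : Prop) := by first | (delta _root_.Cfsg.Agent.KO550f9fb.k9; exact @Subtype.property _ (fun g => @Cfsg.Agent.H865.L34.comb = @g) _) | rfl | trivial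
private noncomputable def _root_.Cfsg.Agent.KO550f9fb.k10.{ku0} : ((x0 : Sort (ku0+1)) → ((@List.{ku0} @x0) → ((@List.{ku0} @x0) → @List.{ku0} @x0))) := @(fun (x0 : Sort (ku0+1)) (x1 : @List.{ku0} @x0) (x2 : @List.{ku0} @x0) => @List.rec.{(ku0+1), ku0} @x0 @(fun (x3 : @List.{ku0} @x0) => ((@List.{ku0} @x0) → @List.{ku0} @x0)) @(fun (x3 : @List.{ku0} @x0) => x3) @(fun (x3 : x0) (x4 : @List.{ku0} @x0) (x5 : ((@List.{ku0} @x0) → @List.{ku0} @x0)) (x6 : @List.{ku0} @x0) => @List.cons.{ku0} @x0 @x3 (@x5 @x6)) @x1 @x2)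
private theorem _root_.Cfsg.Agent.KO550f9fb.e10.{ku0} : @List.append.{ku0} = @_root_.Cfsg.Agent.KO550f9fb.k10.{ku0} := by delta _root_.Cfsg.Agent.KO550f9fb.k10; funext a0 a1 a2; refine (congrFun (_root_.Cfsg.Agent.KO550f9fb.e0 (fun a1 a2 => @List.append.{ku0} a0 a1 a2) ?_ (fun c0 c1 => ?_) a1) a2 :) <;> (rfl')
private noncomputable def _root_.Cfsg.Agent.KO550f9fb.k11.{ku0, ku1} : ((x0 : Sort (ku0+1)) → ((x1 : Sort (ku1+1)) → ((x0 → x1) → ((@List.{ku0} @x0) → @List.{ku1} @x1)))) := @(fun (x0 : Sort (ku0+1)) (x1 : Sort (ku1+1)) (x2 : (x0 → x1)) (x3 : @List.{ku0} @x0) => @List.rec.{(ku1+1), ku0} @x0 @(fun (x4 : @List.{ku0} @x0) => @List.{ku1} @x1) (@List.nil.{ku1} @x1) @(fun (x4 : x0) (x5 : @List.{ku0} @x0) (x6 : @List.{ku1} @x1) => @List.cons.{ku1} @x1 (@x2 @x4) @x6) @x3)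
private theorem _root_.Cfsg.Agent.KO550f9fb.e11.{ku0, ku1} : @List.map.{ku0, ku1} = @_root_.Cfsg.Agent.KO550f9fb.k11.{ku0, ku1} := by delta _root_.Cfsg.Agent.KO550f9fb.k11; funext a0 a1 a2 a3; refine (_root_.Cfsg.Agent.KO550f9fb.e0 (fun a3 => @List.map.{ku0, ku1} a0 a1 a2 a3) ?_ (fun c0 c1 => ?_) a3 :) <;> (rfl')
private noncomputable def _root_.Cfsg.Agent.KO550f9fb.oEq.{ku} (α : Sort ku) (a b : Nat) (f t : α) : α := @Decidable.rec (a = b) (fun _ => α) (fun _ => f) (fun _ => t) (Nat.decEq a b)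
private noncomputable def _root_.Cfsg.Agent.KO550f9fb.k12.{ku} (α : Sort ku) (a b : Nat) (f t : α) : α := @Bool.rec (fun _ => α) f t (Nat.beq a b)
private theorem _root_.Cfsg.Agent.KO550f9fb.e12.{ku} : @_root_.Cfsg.Agent.KO550f9fb.oEq.{ku} = @_root_.Cfsg.Agent.KO550f9fb.k12.{ku} := funext fun α => funext fun a => funext fun b => funext fun f => funext fun t => by delta _root_.Cfsg.Agent.KO550f9fb.oEq _root_.Cfsg.Agent.KO550f9fb.k12; cases h : Nat.beq a b <;> cases Nat.decEq a b <;> rename_i g <;> first | rfl | exact absurd g (Nat.ne_of_beq_eq_false h) | exact absurd (Nat.eq_of_beq_eq_true h) g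
private noncomputable def _root_.Cfsg.Agent.KO550f9fb.k13.{ku0, ku1} : ((x0 : Sort (ku0+1)) → ((x1 : Sort (ku1+1)) → ((x0 → (x1 → x1)) → (x1 → ((@List.{ku0} @x0) → x1))))) := @(fun (x0 : Sort (ku0+1)) (x1 : Sort (ku1+1)) (x2 : (x0 → (x1 → x1))) (x3 : x1) (x4 : @List.{ku0} @x0) => @List.rec.{(ku1+1), ku0} @x0 @(fun (x5 : @List.{ku0} @x0) => x1) @x3 @(fun (x5 : x0) (x6 : @List.{ku0} @x0) (x7 : x1) => @x2 @x5 @x7) @x4)
private theorem _root_.Cfsg.Agent.KO550f9fb.e13.{ku0, ku1} : @List.foldr.{ku0, ku1} = @_root_.Cfsg.Agent.KO550f9fb.k13.{ku0, ku1} := by delta _root_.Cfsg.Agent.KO550f9fb.k13; funext a0 a1 a2 a3 a4; refine (_root_.Cfsg.Agent.KO550f9fb.e0 (fun a4 => @List.foldr.{ku0, ku1} a0 a1 a2 a3 a4) ?_ (fun c0 c1 => ?_) a4 :) <;> (rfl')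
private noncomputable def _root_.Cfsg.Agent.KO550f9fb.k14 : (by first | exact type_of% @Cfsg.Agent.H865.L34.rowd | exact Unit : Sort _) := by first | (refine @Subtype.val _ (fun g => @Cfsg.Agent.H865.L34.rowd = @g) (@Subtype.mk _ _ (@(fun (x0 : @Nat) (x1 : @Nat) => @Cfsg.Agent.KO550f9fb.k13.{0, 0} @Nat @Nat @(fun (x2 : @Nat) (x3 : @Nat) => @Nat.xor (@Bool.rec.{1} @(fun (x4 : @Bool) => @Nat) (nat_lit 0) (@Option.rec.{1, 0} @Nat @(fun (x4 : @Option.{0} @Nat) => @Nat) (nat_lit 0) @(fun (x4 : @Nat) => x4) (@Cfsg.Agent.KO550f9fb.k8.{0} @Nat (@Option.rec.{1, 0} (@List.{0} @Nat) @(fun (x4 : @Option.{0} (@List.{0} @Nat)) => @List.{0} @Nat) (@List.nil.{0} @Nat) @(fun (x4 : @List.{0} @Nat) => x4) (@Cfsg.Agent.KO550f9fb.k8.{0} (@List.{0} @Nat) @Cfsg.Agent.H865.L34.BR @x2)) @x1)) (@Bool.rec.{1} @(fun (x4 : @Bool) => @Bool) @Bool.true @Bool.false (@Cfsg.Agent.KO550f9fb.k12.{1} @Bool (@Nat.land (nat_lit 1) (@Nat.shiftRight @x0 @x2)) (nat_lit 0) @Bool.false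 @Bool.true))) @x3) (nat_lit 0) (@Cfsg.Agent.KO550f9fb.k3 (nat_lit 5) (@List.nil.{0} @Nat)))) ?_); rewrite [← Cfsg.Agent.KO550f9fb.e13.{0, 0}, ← Cfsg.Agent.KO550f9fb.e8.{0}, ← Cfsg.Agent.KO550f9fb.e12.{1}, ← Cfsg.Agent.KO550f9fb.e3]; (try delta Cfsg.Agent.H865.L34.rowd); (try generalize @Cfsg.Agent.H865.L34.BR = g0); rfl') | exact @Cfsg.Agent.H865.L34.rowd | exact ()
private theorem _root_.Cfsg.Agent.KO550f9fb.e14 : (by first | exact @Cfsg.Agent.H865.L34.rowd = @_root_.Cfsg.Agent.KO550f9fb.k14 | exact True : Prop) := by first | (delta _root_.Cfsg.Agent.KO550f9fb.k14; exact @Subtype.property _ (fun g => @Cfsg.Agent.H865.L34.rowd = @g) _) | rfl | trivial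
private noncomputable def _root_.Cfsg.Agent.KO550f9fb.k15 : (by first | exact type_of% @Cfsg.Agent.H865.L34.raw | exact Unit : Sort _) := by first | (refine @Subtype.val _ (fun g => @Cfsg.Agent.H865.L34.raw = @g) (@Subtype.mk _ _ (@(fun (x0 : @Nat) => @Cfsg.Agent.KO550f9fb.k10.{0} @Nat (@Cfsg.Agent.KO550f9fb.k11.{0, 0} @Nat @Nat @(fun (x1 : @Nat) => @Cfsg.Agent.KO550f9fb.k14 @x0 @x1) (@Cfsg.Agent.KO550f9fb.k3 (nat_lit 27) (@List.nil.{0} @Nat))) @Cfsg.Agent.H865.L34.CM)) ?_); rewrite [← Cfsg.Agent.KO550f9fb.e10.{0}, ← Cfsg.Agent.KO550f9fb.e11.{0, 0}, ← Cfsg.Agent.KO550f9fb.e14, ← Cfsg.Agent.KO550f9fb.e3]; (try delta Cfsg.Agent.H865.L34.raw); (try generalize @Cfsg.Agent.H865.L34.rowd = g0); (try generalize @Cfsg.Agent.H865.L34.CM = g1); rfl') | exact @Cfsg.Agent.H865.L34.raw | exact ()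
private theorem _root_.Cfsg.Agent.KO550f9fb.e15 : (by first | exact @Cfsg.Agent.H865.L34.raw = @_root_.Cfsg.Agent.KO550f9fb.k15 | exact True : Prop) := by first | (delta _root_.Cfsg.Agent.KO550f9fb.k15; exact @Subtype.property _ (fun g => @Cfsg.Agent.H865.L34.raw = @g) _) | rfl | trivial
private noncomputable def _root_.Cfsg.Agent.KO550f9fb.k16 : (by first | exact type_of% @Cfsg.Agent.H865.L34.chkR | exact Unit : Sort _) := by first | (refine @Subtype.val _ (fun g => @Cfsg.Agent.H865.L34.chkR = @g) (@Subtype.mk _ _ (@(fun (x0 : @Nat) => @Cfsg.Agent.KO550f9fb.k1.{0} (@Prod.{0, 0} (@List.{0} @Nat) (@List.{0} @Nat)) (@Cfsg.Agent.KO550f9fb.k6.{0, 0, 0} (@List.{0} @Nat) (@List.{0} @Nat) (@Prod.{0, 0} (@List.{0} @Nat) (@List.{0} @Nat)) (@Prod.mk.{0, 0} (@List.{0} @Nat) (@List.{0} @Nat)) (@Option.rec.{1, 0} (@List.{0} (@List.{0} @Nat)) @(fun (x1 : @Option.{0} (@List.{0} (@List.{0} @Nat))) => @List.{0} (@List.{0} @Nat)) (@List.nil.{0} (@List.{0} @Nat))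 @(fun (x1 : @List.{0} (@List.{0} @Nat)) => x1) (@Cfsg.Agent.KO550f9fb.k8.{0} (@List.{0} (@List.{0} @Nat)) @Cfsg.Agent.H865.L34.RL @x0)) (@Option.rec.{1, 0} (@List.{0} (@List.{0} @Nat)) @(fun (x1 : @Option.{0} (@List.{0} (@List.{0} @Nat))) => @List.{0} (@List.{0} @Nat)) (@List.nil.{0} (@List.{0} @Nat)) @(fun (x1 : @List.{0} (@List.{0} @Nat)) => x1) (@Cfsg.Agent.KO550f9fb.k8.{0} (@List.{0} (@List.{0} @Nat)) @Cfsg.Agent.H865.L34.CB @x0))) @(fun (x1 : @Prod.{0, 0} (@List.{0} @Nat) (@List.{0} @Nat)) => @Cfsg.Agent.KO550f9fb.k1.{0} (@Prod.{0, 0} @Nat @Nat) (@Cfsg.Agent.KO550f9fb.k6.{0, 0, 0} @Nat @Nat (@Prod.{0, 0} @Nat @Nat) (@Prod.mk.{0, 0} @Nat @Nat) (@Prod.fst.{0, 0} (@List.{0} @Nat) (@List.{0} @Nat) @x1) (@Prod.snd.{0, 0} (@List.{0} @Nat) (@List.{0} @Nat) @x1)) @(fun (x2 : @Prod.{0, 0} @Nat @Nat) => @Nat.beq (@Cfsg.Agent.KO550f9fb.k9 (@Cfsg.Agent.KO550f9fb.k15 @x0) (@Prod.snd.{0, 0} @Nat @Nat @x2)) (@Prod.fst.{0, 0} @Nat @Nat @x2))))) ?_); rewrite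 [← Cfsg.Agent.KO550f9fb.e1.{0}, ← Cfsg.Agent.KO550f9fb.e6.{0, 0, 0}, ← Cfsg.Agent.KO550f9fb.e8.{0}, ← Cfsg.Agent.KO550f9fb.e9, ← Cfsg.Agent.KO550f9fb.e15]; (try delta Cfsg.Agent.H865.L34.chkR); (try generalize @Cfsg.Agent.H865.L34.RL = g0); (try generalize @Cfsg.Agent.H865.L34.CB = g1); (try generalize @Cfsg.Agent.H865.L34.comb = g2); (try generalize @Cfsg.Agent.H865.L34.raw = g3); rfl') | exact @Cfsg.Agent.H865.L34.chkR | exact ()
private theorem _root_.Cfsg.Agent.KO550f9fb.e16 : (by first | exact @Cfsg.Agent.H865.L34.chkR = @_root_.Cfsg.Agent.KO550f9fb.k16 | exact True : Prop) := by first | (delta _root_.Cfsg.Agent.KO550f9fb.k16; exact @Subtype.property _ (fun g => @Cfsg.Agent.H865.L34.chkR = @g) _) | rfl | trivial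

theorem chkR_all : ((List.range 32).all chkR) = true := by (first | (rewrite [Cfsg.Agent.KO550f9fb.e1.{0}, Cfsg.Agent.KO550f9fb.e4, Cfsg.Agent.KO550f9fb.e16]; decide +kernel) | decide +kernel)

private noncomputable def _root_.Cfsg.Agent.KO550f9fb.k17.{ku0} : ((x0 : Sort (ku0+1)) → ((@List.{ku0} @x0) → @Nat)) := @(fun (x0 : Sort (ku0+1)) (x1 : @List.{ku0} @x0) => @List.rec.{1, ku0} @x0 @(fun (x2 : @List.{ku0} @x0) => @Nat) (nat_lit 0) @(fun (x2 : x0) (x3 : @List.{ku0} @x0) (x4 : @Nat) => @Nat.add @x4 (nat_lit 1)) @x1)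
private theorem _root_.Cfsg.Agent.KO550f9fb.e17.{ku0} : @List.length.{ku0} = @_root_.Cfsg.Agent.KO550f9fb.k17.{ku0} := by delta _root_.Cfsg.Agent.KO550f9fb.k17; funext a0 a1; refine (_root_.Cfsg.Agent.KO550f9fb.e0 (fun a1 => @List.length.{ku0} a0 a1) ?_ (fun c0 c1 => ?_) a1 :) <;> (rfl')
private noncomputable def _root_.Cfsg.Agent.KO550f9fb.k18 : (by first | exact type_of% @Cfsg.Agent.H865.L34.bnd | exact Unit : Sort _) := by first | (refine @Subtype.val _ (fun g => @Cfsg.Agent.H865.L34.bnd = @g) (@Subtype.mk _ _ (@(fun (x0 : @List.{0} @Cfsg.Agent.H865.L34.Lev) (x1 : @Nat) => @List.rec.{1, 0} @Cfsg.Agent.H865.L34.Lev @(fun (x2 : @List.{0} @Cfsg.Agent.H865.L34.Lev) => (@Nat → @Bool)) @(fun (x2 : @Nat) => @Bool.true) @(fun (x2 : @Cfsg.Agent.H865.L34.Lev) (x3 : @List.{0} @Cfsg.Agent.H865.L34.Lev) (x4 : (@Nat → @Bool)) (x5 : @Nat) => @Bool.rec.{1} @(fun (x6 : @Bool) => @Bool) @Bool.false (@x4 (@Nat.mul (nat_lit 2) @x5)) (@Bool.rec.{1} @(fun (x6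 : @Bool) => @Bool) @Bool.false (@Cfsg.Agent.KO550f9fb.k1.{0} (@List.{0} @Nat) (@Prod.snd.{0, 0} (@List.{0} @Nat) (@List.{0} (@List.{0} @Nat)) @x2) @(fun (x6 : @List.{0} @Nat) => @Cfsg.Agent.KO550f9fb.k1.{0} @Nat @x6 @(fun (x7 : @Nat) => @Nat.ble (@Nat.succ @x7) (@Nat.mul (nat_lit 2) @x5)))) (@Cfsg.Agent.KO550f9fb.k1.{0} @Nat (@Prod.fst.{0, 0} (@List.{0} @Nat) (@List.{0} (@List.{0} @Nat)) @x2) @(fun (x6 : @Nat) => @Nat.ble (@Nat.succ @x6) (@Nat.mul (nat_lit 2) @x5))))) @x0 @x1)) ?_); rewrite [← Cfsg.Agent.KO550f9fb.e1.{0}]; funext a0 a1; refine (congrFun (_root_.Cfsg.Agent.KO550f9fb.e0 (fun a0 a1 => @Cfsg.Agent.H865.L34.bnd a0 a1) ?_ (fun c0 c1 => ?_) a0) a1 :) <;> (rfl')) | exact @Cfsg.Agent.H865.L34.bnd | exact ()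
private theorem _root_.Cfsg.Agent.KO550f9fb.e18 : (by first | exact @Cfsg.Agent.H865.L34.bnd = @_root_.Cfsg.Agent.KO550f9fb.k18 | exact True : Prop) := by first | (delta _root_.Cfsg.Agent.KO550f9fb.k18; exact @Subtype.property _ (fun g => @Cfsg.Agent.H865.L34.bnd = @g) _) | rfl | trivial
private noncomputable def _root_.Cfsg.Agent.KO550f9fb.k19 : (by first | exact type_of% @Cfsg.Agent.H865.L34.LV | exact Unit : Sort _) := by first | (refine @Subtype.val _ (fun g => @Cfsg.Agent.H865.L34.LV = @g) (@Subtype.mk _ _ (@(fun (x0 : @Nat) => @Cfsg.Agent.KO550f9fb.k6.{0, 0, 0} (@List.{0} @Nat) (@List.{0} (@List.{0} @Nat)) (@Prod.{0, 0} (@List.{0} @Nat) (@List.{0} (@List.{0} @Nat))) (@Prod.mk.{0, 0} (@List.{0} @Nat) (@List.{0} (@List.{0} @Nat))) (@Option.rec.{1, 0} (@List.{0} (@List.{0} @Nat)) @(fun (x1 : @Option.{0} (@List.{0} (@List.{0} @Nat))) => @List.{0} (@List.{0} @Nat)) (@List.nil.{0} (@List.{0} @Nat)) @(fun (x1 : @List.{0} (@List.{0} @Nat)) =>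 x1) (@Cfsg.Agent.KO550f9fb.k8.{0} (@List.{0} (@List.{0} @Nat)) @Cfsg.Agent.H865.L34.RL @x0)) @Cfsg.Agent.H865.L34.QB)) ?_); rewrite [← Cfsg.Agent.KO550f9fb.e6.{0, 0, 0}, ← Cfsg.Agent.KO550f9fb.e8.{0}]; (try delta Cfsg.Agent.H865.L34.LV); (try generalize @Cfsg.Agent.H865.L34.RL = g0); (try generalize @Cfsg.Agent.H865.L34.QB = g1); rfl') | exact @Cfsg.Agent.H865.L34.LV | exact ()
private theorem _root_.Cfsg.Agent.KO550f9fb.e19 : (by first | exact @Cfsg.Agent.H865.L34.LV = @_root_.Cfsg.Agent.KO550f9fb.k19 | exact True : Prop) := by first | (delta _root_.Cfsg.Agent.KO550f9fb.k19; exact @Subtype.property _ (fun g => @Cfsg.Agent.H865.L34.LV = @g) _) | rfl | trivial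
private noncomputable def _root_.Cfsg.Agent.KO550f9fb.k20 : (by first | exact type_of% @Cfsg.Agent.H865.L34.chkL | exact Unit : Sort _) := by first | (refine @Subtype.val _ (fun g => @Cfsg.Agent.H865.L34.chkL = @g) (@Subtype.mk _ _ (@(fun (x0 : @Nat) => @Bool.rec.{1} @(fun (x1 : @Bool) => @Bool) @Bool.false (@Cfsg.Agent.KO550f9fb.k1.{0} (@Prod.{0, 0} (@List.{0} @Nat) (@List.{0} @Nat)) (@Cfsg.Agent.KO550f9fb.k6.{0, 0, 0} (@List.{0} @Nat) (@List.{0} @Nat) (@Prod.{0, 0} (@List.{0} @Nat) (@List.{0} @Nat)) (@Prod.mk.{0, 0} (@List.{0} @Nat) (@List.{0} @Nat)) (@Option.rec.{1, 0} (@List.{0} (@List.{0} @Nat)) @(fun (x1 : @Option.{0} (@List.{0} (@List.{0} @Nat))) => @List.{0} (@List.{0} @Nat)) (@List.nil.{0} (@List.{0} @Nat)) @(fun (x1 : @List.{0} (@List.{0} @Nat)) => x1) (@Cfsg.Agent.KO550f9fb.k8.{0} (@List.{0} (@List.{0} @Nat)) @Cfsg.Agent.H865.L34.RL @x0)) (@Option.rec.{1, 0} (@List.{0} (@List.{0} @Nat)) @(fun (x1 : @Option.{0} (@List.{0} (@List.{0}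 @Nat))) => @List.{0} (@List.{0} @Nat)) (@List.nil.{0} (@List.{0} @Nat)) @(fun (x1 : @List.{0} (@List.{0} @Nat)) => x1) (@Cfsg.Agent.KO550f9fb.k8.{0} (@List.{0} (@List.{0} @Nat)) @Cfsg.Agent.H865.L34.CB @x0))) @(fun (x1 : @Prod.{0, 0} (@List.{0} @Nat) (@List.{0} @Nat)) => @Nat.beq (@Cfsg.Agent.KO550f9fb.k17.{0} @Nat (@Prod.fst.{0, 0} (@List.{0} @Nat) (@List.{0} @Nat) @x1)) (@Cfsg.Agent.KO550f9fb.k17.{0} @Nat (@Prod.snd.{0, 0} (@List.{0} @Nat) (@List.{0} @Nat) @x1)))) (@Bool.rec.{1} @(fun (x1 : @Bool) => @Bool) @Bool.false (@Nat.beq (@Cfsg.Agent.KO550f9fb.k17.{0} (@List.{0} @Nat) (@Option.rec.{1, 0} (@List.{0} (@List.{0} @Nat)) @(fun (x1 : @Option.{0} (@List.{0} (@List.{0} @Nat))) => @List.{0} (@List.{0} @Nat)) (@List.nil.{0} (@List.{0} @Nat)) @(fun (x1 : @List.{0} (@List.{0} @Nat)) => x1) (@Cfsg.Agent.KO550f9fb.k8.{0} (@List.{0} (@List.{0} @Nat)) @Cfsg.Agent.H865.L34.RL @x0))) (@Cfsg.Agent.KO550f9fb.k17.{0} (@List.{0} @Nat) (@Option.rec.{1, 0}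 (@List.{0} (@List.{0} @Nat)) @(fun (x1 : @Option.{0} (@List.{0} (@List.{0} @Nat))) => @List.{0} (@List.{0} @Nat)) (@List.nil.{0} (@List.{0} @Nat)) @(fun (x1 : @List.{0} (@List.{0} @Nat)) => x1) (@Cfsg.Agent.KO550f9fb.k8.{0} (@List.{0} (@List.{0} @Nat)) @Cfsg.Agent.H865.L34.CB @x0)))) (@Bool.rec.{1} @(fun (x1 : @Bool) => @Bool) @Bool.false (@Cfsg.Agent.KO550f9fb.k18 (@Cfsg.Agent.KO550f9fb.k19 @x0) (nat_lit 1)) (@Nat.beq (@Cfsg.Agent.KO550f9fb.k17.{0} @Cfsg.Agent.H865.L34.Lev (@Cfsg.Agent.KO550f9fb.k19 @x0)) (nat_lit 27)))))) ?_); rewrite [← Cfsg.Agent.KO550f9fb.e1.{0}, ← Cfsg.Agent.KO550f9fb.e6.{0, 0, 0}, ← Cfsg.Agent.KO550f9fb.e8.{0}, ← Cfsg.Agent.KO550f9fb.e17.{0}, ← Cfsg.Agent.KO550f9fb.e18, ← Cfsg.Agent.KO550f9fb.e19]; (try delta Cfsg.Agent.H865.L34.chkL); (try generalize @Cfsg.Agent.H865.L34.RL = g0); (try generalize @Cfsg.Agent.H865.L34.CB = g1); (try generalize @Cfsg.Agent.H865.L34.bnd = g2); (try generalize @Cfsg.Agent.H865.L34.LV = g3);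 rfl') | exact @Cfsg.Agent.H865.L34.chkL | exact ()
private theorem _root_.Cfsg.Agent.KO550f9fb.e20 : (by first | exact @Cfsg.Agent.H865.L34.chkL = @_root_.Cfsg.Agent.KO550f9fb.k20 | exact True : Prop) := by first | (delta _root_.Cfsg.Agent.KO550f9fb.k20; exact @Subtype.property _ (fun g => @Cfsg.Agent.H865.L34.chkL = @g) _) | rfl | trivial

theorem chkL_all : ((List.range 32).all chkL) = true := by (first | (rewrite [Cfsg.Agent.KO550f9fb.e1.{0}, Cfsg.Agent.KO550f9fb.e4, Cfsg.Agent.KO550f9fb.e20]; decide +kernel) | decide +kernel)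

private noncomputable def _root_.Cfsg.Agent.KO550f9fb.k21.{ku0} : ((x0 : Sort (ku0+1)) → ((@List.{ku0} @x0) → ((x0 → @Bool) → @Bool))) := @(fun (x0 : Sort (ku0+1)) (x1 : @List.{ku0} @x0) (x2 : (x0 → @Bool)) => @List.rec.{(ku0+1), ku0} @x0 @(fun (x3 : @List.{ku0} @x0) => ((x0 → @Bool) → @Bool)) @(fun (x3 : (x0 → @Bool)) => @Bool.false) @(fun (x3 : x0) (x4 : @List.{ku0} @x0) (x5 : ((x0 → @Bool) → @Bool)) (x6 : (x0 → @Bool)) => @Bool.rec.{1} @(fun (x7 : @Bool) => @Bool) (@x5 @x6) @Bool.true (@x6 @x3)) @x1 @x2)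
private theorem _root_.Cfsg.Agent.KO550f9fb.e21.{ku0} : @List.any.{ku0} = @_root_.Cfsg.Agent.KO550f9fb.k21.{ku0} := by delta _root_.Cfsg.Agent.KO550f9fb.k21; funext a0 a1 a2; refine (congrFun (_root_.Cfsg.Agent.KO550f9fb.e0 (fun a1 a2 => @List.any.{ku0} a0 a1 a2) ?_ (fun c0 c1 => ?_) a1) a2 :) <;> (rfl')
private noncomputable def _root_.Cfsg.Agent.KO550f9fb.k22 : ((x0 : Prop) → ((@Decidable @x0) → @Bool)) := @(fun (x0 : Prop) (x1 : @Decidable @x0) => @Decidable.rec.{1} @x0 @(fun (x2 : @Decidable @x0) => @Bool) @(fun (x2 : @Not @x0) => @Bool.false) @(fun (x2 : x0) => @Bool.true) @x1)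
private theorem _root_.Cfsg.Agent.KO550f9fb.e22 : @Decidable.decide = @_root_.Cfsg.Agent.KO550f9fb.k22 := by delta _root_.Cfsg.Agent.KO550f9fb.k22; rfl'
private noncomputable def _root_.Cfsg.Agent.KO550f9fb.k24.{ku0} : ((x0 : Sort (ku0+1)) → ((@DecidableEq.{(ku0+1)} @x0) → ((x2 : @List.{ku0} @x0) → ((x3 : @List.{ku0} @x0) → @Decidable (@Eq.{(ku0+1)} (@List.{ku0} @x0) @x2 @x3))))) := @(fun (x0 : Sort (ku0+1)) (x1 : @DecidableEq.{(ku0+1)} @x0) (x2 : @List.{ku0} @x0) (x3 : @List.{ku0} @x0) => @List.rec.{(ku0+1), ku0} @x0 @(fun (x4 : @List.{ku0} @x0) => ((x5 : @List.{ku0} @x0) → @Decidable (@Eq.{(ku0+1)} (@List.{ku0} @x0) @x4 @x5))) @(fun (x4 : @List.{ku0} @x0) => @List.rec.{1, ku0} @x0 @(fun (x5 : @List.{ku0} @x0) => @Decidable (@Eq.{(ku0+1)} (@List.{ku0} @x0) (@List.nil.{ku0} @x0) @x5)) (@Decidable.isTrue (@Eq.{(ku0+1)} (@List.{ku0} @x0) (@List.nil.{ku0} @x0) (@List.nil.{ku0} @x0)) (@List.hasDecEq._proof_1.{ku0} @x0)) @(fun (x5 : x0) (x6 : @List.{ku0}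 @x0) (x7 : @Decidable (@Eq.{(ku0+1)} (@List.{ku0} @x0) (@List.nil.{ku0} @x0) @x6)) => @Decidable.isFalse (@Eq.{(ku0+1)} (@List.{ku0} @x0) (@List.nil.{ku0} @x0) (@List.cons.{ku0} @x0 @x5 @x6)) (@List.hasDecEq._proof_3.{ku0} @x0 @x5 @x6)) @x4) @(fun (x4 : x0) (x5 : @List.{ku0} @x0) (x6 : ((x6 : @List.{ku0} @x0) → @Decidable (@Eq.{(ku0+1)} (@List.{ku0} @x0) @x5 @x6))) (x7 : @List.{ku0} @x0) => @List.rec.{1, ku0} @x0 @(fun (x8 : @List.{ku0} @x0) => @Decidable (@Eq.{(ku0+1)} (@List.{ku0} @x0) (@List.cons.{ku0} @x0 @x4 @x5) @x8)) (@Decidable.isFalse (@Eq.{(ku0+1)} (@List.{ku0} @x0) (@List.cons.{ku0} @x0 @x4 @x5) (@List.nil.{ku0} @x0)) (@List.hasDecEq._proof_2.{ku0} @x0 @x4 @x5)) @(fun (x8 : x0) (x9 : @List.{ku0} @x0) (x10 : @Decidable (@Eq.{(ku0+1)} (@List.{ku0} @x0) (@List.cons.{ku0} @x0 @x4 @x5) @x9)) => @Decidable.rec.{1} (@Eq.{(ku0+1)} @x0 @x4 @x8) @(fun (x11 : @Decidable (@Eq.{(ku0+1)} @x0 @x4 @x8)) => @Decidable (@Eq.{(ku0+1)} (@List.{ku0} @x0)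 (@List.cons.{ku0} @x0 @x4 @x5) (@List.cons.{ku0} @x0 @x8 @x9))) @(fun (x11 : @Not (@Eq.{(ku0+1)} @x0 @x4 @x8)) => @Decidable.isFalse (@Eq.{(ku0+1)} (@List.{ku0} @x0) (@List.cons.{ku0} @x0 @x4 @x5) (@List.cons.{ku0} @x0 @x8 @x9)) (@List.hasDecEq._proof_6.{ku0} @x0 @x4 @x5 @x8 @x9 @x11)) @(fun (x11 : @Eq.{(ku0+1)} @x0 @x4 @x8) => @Decidable.rec.{1} (@Eq.{(ku0+1)} (@List.{ku0} @x0) @x5 @x9) @(fun (x12 : @Decidable (@Eq.{(ku0+1)} (@List.{ku0} @x0) @x5 @x9)) => @Decidable (@Eq.{(ku0+1)} (@List.{ku0} @x0) (@List.cons.{ku0} @x0 @x4 @x5) (@List.cons.{ku0} @x0 @x8 @x9))) @(fun (x12 : @Not (@Eq.{(ku0+1)} (@List.{ku0} @x0) @x5 @x9)) => @Decidable.isFalse (@Eq.{(ku0+1)} (@List.{ku0} @x0) (@List.cons.{ku0} @x0 @x4 @x5) (@List.cons.{ku0} @x0 @x8 @x9)) (@List.hasDecEq._proof_5.{ku0} @x0 @x4 @x5 @x8 @x9 @x12)) @(fun (x12 : @Eq.{(ku0+1)} (@List.{ku0} @x0) @x5 @x9) => @Decidable.isTrue (@Eq.{(ku0+1)} (@List.{ku0} @x0) (@List.cons.{ku0} @x0 @x4 @x5) (@List.cons.{ku0}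 @x0 @x8 @x9)) (@List.hasDecEq._proof_4.{ku0} @x0 @x4 @x5 @x8 @x9 @x11 @x12)) (@x6 @x9)) (@x1 @x4 @x8)) @x7) @x2 @x3)
private theorem _root_.Cfsg.Agent.KO550f9fb.e24.{ku0} : @List.hasDecEq.{ku0} = @_root_.Cfsg.Agent.KO550f9fb.k24.{ku0} := by delta _root_.Cfsg.Agent.KO550f9fb.k24; funext a0 a1 a2 a3; refine (congrFun (_root_.Cfsg.Agent.KO550f9fb.e0 (fun a2 a3 => @List.hasDecEq.{ku0} a0 a1 a2 a3) ?_ (fun c0 c1 => ?_) a2) a3 :) <;> [(funext b0; (cases b0 with | @nil  => (rfl') | @cons b0_0 b0_1 => (rfl'))); (funext b0; (cases b0 with | @nil  => (rfl') | @cons b0_0 b0_1 => (rfl')))]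
private noncomputable def _root_.Cfsg.Agent.KO550f9fb.k25.{ku0} : ((x0 : Sort (ku0+1)) → ((@DecidableEq.{(ku0+1)} @x0) → @DecidableEq.{(ku0+1)} (@List.{ku0} @x0))) := @(fun (x0 : Sort (ku0+1)) (x1 : @DecidableEq.{(ku0+1)} @x0) (x2 : @List.{ku0} @x0) (x3 : @List.{ku0} @x0) => @List.rec.{1, ku0} @x0 @(fun (x4 : @List.{ku0} @x0) => @Decidable (@Eq.{(ku0+1)} (@List.{ku0} @x0) @x4 @x3)) (@List.rec.{1, ku0} @x0 @(fun (x4 : @List.{ku0} @x0) => @Decidable (@Eq.{(ku0+1)} (@List.{ku0} @x0) (@List.nil.{ku0} @x0) @x4)) (@Decidable.isTrue (@Eq.{(ku0+1)} (@List.{ku0} @x0) (@List.nil.{ku0} @x0) (@List.nil.{ku0} @x0)) (@List.hasDecEq._proof_1.{ku0} @x0)) @(fun (x4 : x0) (x5 : @List.{ku0} @x0) (x6 : @Decidable (@Eq.{(ku0+1)} (@List.{ku0} @x0) (@List.nil.{ku0} @x0) @x5)) => @Decidable.isFalse (@Eq.{(ku0+1)} (@List.{ku0} @x0) (@List.nil.{ku0} @x0) (@List.cons.{ku0} @x0 @x4 @x5)) (@List.hasDecEq._proof_3.{ku0} @x0 @x4 @x5)) @x3) @(fun (x4 : x0) (x5 : @List.{ku0}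 @x0) (x6 : @Decidable (@Eq.{(ku0+1)} (@List.{ku0} @x0) @x5 @x3)) => @List.rec.{1, ku0} @x0 @(fun (x7 : @List.{ku0} @x0) => @Decidable (@Eq.{(ku0+1)} (@List.{ku0} @x0) (@List.cons.{ku0} @x0 @x4 @x5) @x7)) (@Decidable.isFalse (@Eq.{(ku0+1)} (@List.{ku0} @x0) (@List.cons.{ku0} @x0 @x4 @x5) (@List.nil.{ku0} @x0)) (@List.hasDecEq._proof_2.{ku0} @x0 @x4 @x5)) @(fun (x7 : x0) (x8 : @List.{ku0} @x0) (x9 : @Decidable (@Eq.{(ku0+1)} (@List.{ku0} @x0) (@List.cons.{ku0} @x0 @x4 @x5) @x8)) => @Decidable.rec.{1} (@Eq.{(ku0+1)} @x0 @x4 @x7) @(fun (x10 : @Decidable (@Eq.{(ku0+1)} @x0 @x4 @x7)) => @Decidable (@Eq.{(ku0+1)} (@List.{ku0} @x0) (@List.cons.{ku0} @x0 @x4 @x5) (@List.cons.{ku0} @x0 @x7 @x8))) @(fun (x10 : @Not (@Eq.{(ku0+1)} @x0 @x4 @x7)) => @Decidable.isFalse (@Eq.{(ku0+1)} (@List.{ku0} @x0) (@List.cons.{ku0} @x0 @x4 @x5) (@List.cons.{ku0} @x0 @x7 @x8)) (@List.hasDecEq._proof_6.{ku0} @x0 @x4 @x5 @x7 @x8 @x10)) @(fun (x10 : @Eq.{(ku0+1)} @x0 @x4 @x7)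 => @Decidable.rec.{1} (@Eq.{(ku0+1)} (@List.{ku0} @x0) @x5 @x8) @(fun (x11 : @Decidable (@Eq.{(ku0+1)} (@List.{ku0} @x0) @x5 @x8)) => @Decidable (@Eq.{(ku0+1)} (@List.{ku0} @x0) (@List.cons.{ku0} @x0 @x4 @x5) (@List.cons.{ku0} @x0 @x7 @x8))) @(fun (x11 : @Not (@Eq.{(ku0+1)} (@List.{ku0} @x0) @x5 @x8)) => @Decidable.isFalse (@Eq.{(ku0+1)} (@List.{ku0} @x0) (@List.cons.{ku0} @x0 @x4 @x5) (@List.cons.{ku0} @x0 @x7 @x8)) (@List.hasDecEq._proof_5.{ku0} @x0 @x4 @x5 @x7 @x8 @x11)) @(fun (x11 : @Eq.{(ku0+1)} (@List.{ku0} @x0) @x5 @x8) => @Decidable.isTrue (@Eq.{(ku0+1)} (@List.{ku0} @x0) (@List.cons.{ku0} @x0 @x4 @x5) (@List.cons.{ku0} @x0 @x7 @x8)) (@List.hasDecEq._proof_4.{ku0} @x0 @x4 @x5 @x7 @x8 @x10 @x11)) (@Cfsg.Agent.KO550f9fb.k24.{ku0} @x0 @x1 @x5 @x8)) (@x1 @x4 @x7)) @x3) @x2)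
private theorem _root_.Cfsg.Agent.KO550f9fb.e25.{ku0} : @instDecidableEqList.{ku0} = @_root_.Cfsg.Agent.KO550f9fb.k25.{ku0} := by delta _root_.Cfsg.Agent.KO550f9fb.k25; rewrite [← Cfsg.Agent.KO550f9fb.e24.{ku0}]; rfl'
private noncomputable def _root_.Cfsg.Agent.KO550f9fb.k26 : ((x0 : @Nat) → ((x1 : @Nat) → @Decidable (@Eq.{1} @Nat @x0 @x1))) := @(fun (x0 : @Nat) (x1 : @Nat) => @Bool.rec.{1} @(fun (x2 : @Bool) => ((@Eq.{1} @Bool (@Nat.beq @x0 @x1) @x2) → @Decidable (@Eq.{1} @Nat @x0 @x1))) @(fun (x2 : @Eq.{1} @Bool (@Nat.beq @x0 @x1) @Bool.false) => @Decidable.isFalse (@Eq.{1} @Nat @x0 @x1) (@Nat.ne_of_beq_eq_false @x0 @x1 @x2)) @(fun (x2 : @Eq.{1} @Bool (@Nat.beq @x0 @x1) @Bool.true) => @Decidable.isTrue (@Eq.{1} @Nat @x0 @x1) (@Nat.eq_of_beq_eq_true @x0 @x1 @x2)) (@Nat.beq @x0 @x1) (@Eq.refl.{1} @Bool (@Nat.beq @x0 @x1)))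
private theorem _root_.Cfsg.Agent.KO550f9fb.e26 : @Nat.decEq = @_root_.Cfsg.Agent.KO550f9fb.k26 := by delta _root_.Cfsg.Agent.KO550f9fb.k26; rfl'
private noncomputable def _root_.Cfsg.Agent.KO550f9fb.k27 : @DecidableEq.{1} @Nat := @Cfsg.Agent.KO550f9fb.k26
private theorem _root_.Cfsg.Agent.KO550f9fb.e27 : @instDecidableEqNat = @_root_.Cfsg.Agent.KO550f9fb.k27 := by delta _root_.Cfsg.Agent.KO550f9fb.k27; rewrite [← Cfsg.Agent.KO550f9fb.e26]; rfl'

theorem QB_sub : (QB.all fun l => l.all fun e => EQl.any fun a => decide (a.2.2 = e)) = true := by (first | (rewrite [Cfsg.Agent.KO550f9fb.e1.{0}, Cfsg.Agent.KO550f9fb.e21.{0}, Cfsg.Agent.KO550f9fb.e22, Cfsg.Agent.KO550f9fb.e25.{0}, Cfsg.Agent.KO550f9fb.e27]; decide +kernel) | decide +kernel)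

private noncomputable def _root_.Cfsg.Agent.KO550f9fb.k28.{ku0} : ((x0 : Sort ku0) → ((x1 : @Bool) → ((x2 : @Bool) → ((@Eq.{1} @Bool @x1 @x2) → @Bool.noConfusionType.{ku0} @x0 @x1 @x2)))) := @(fun (x0 : Sort ku0) (x1 : @Bool) (x2 : @Bool) (x3 : @Eq.{1} @Bool @x1 @x2) => @Eq.rec.{ku0, 1} @Bool @x1 @(fun (x4 : @Bool) (x5 : @Eq.{1} @Bool @x1 @x4) => @Bool.noConfusionType.{ku0} @x0 @x1 @x4) (@Bool.rec.{ku0} @(fun (x4 : @Bool) => @Bool.noConfusionType.{ku0} @x0 @x4 @x4) @(fun (x4 : x0) => x4) @(fun (x4 : x0) => x4) @x1) @x2 @x3)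
private theorem _root_.Cfsg.Agent.KO550f9fb.e28.{ku0} : @Bool.noConfusion.{ku0} = @_root_.Cfsg.Agent.KO550f9fb.k28.{ku0} := by delta _root_.Cfsg.Agent.KO550f9fb.k28; rfl'
private noncomputable def _root_.Cfsg.Agent.KO550f9fb.k29 : ((x0 : @Bool) → ((x1 : @Bool) → @Decidable (@Eq.{1} @Bool @x0 @x1))) := @(fun (x0 : @Bool) (x1 : @Bool) => @Bool.rec.{1} @(fun (x2 : @Bool) => @Decidable (@Eq.{1} @Bool @x2 @x1)) (@Bool.rec.{1} @(fun (x2 : @Bool) => @Decidable (@Eq.{1} @Bool @Bool.false @x2)) (@Decidable.isTrue (@Eq.{1} @Bool @Bool.false @Bool.false) (@rfl.{1} @Bool @Bool.false)) (@Decidable.isFalse (@Eq.{1} @Bool @Bool.false @Bool.true) @(fun (x2 : @Eq.{1} @Bool @Bool.false @Bool.true) => @Cfsg.Agent.KO550f9fb.k28.{0} @False @Bool.false @Bool.true @x2)) @x1) (@Bool.rec.{1} @(fun (x2 : @Bool) => @Decidable (@Eq.{1} @Bool @Bool.true @x2)) (@Decidable.isFalse (@Eq.{1} @Bool @Bool.true @Bool.false) @(fun (x2 : @Eq.{1} @Bool @Bool.true @Bool.false) =>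 @Cfsg.Agent.KO550f9fb.k28.{0} @False @Bool.true @Bool.false @x2)) (@Decidable.isTrue (@Eq.{1} @Bool @Bool.true @Bool.true) (@rfl.{1} @Bool @Bool.true)) @x1) @x0)
private theorem _root_.Cfsg.Agent.KO550f9fb.e29 : @Bool.decEq = @_root_.Cfsg.Agent.KO550f9fb.k29 := by delta _root_.Cfsg.Agent.KO550f9fb.k29; rewrite [← Cfsg.Agent.KO550f9fb.e28.{0}]; rfl'
private noncomputable def _root_.Cfsg.Agent.KO550f9fb.k30 : (by first | exact type_of% @Cfsg.Agent.H865.L34.pty | exact Unit : Sort _) := by first | (refine @Subtype.val _ (fun g => @Cfsg.Agent.H865.L34.pty = @g) (@Subtype.mk _ _ (@(fun (x0 : @Nat) => @Nat.beq (@Nat.land (@Nat.xor (@Nat.xor (@Nat.xor (@Nat.xor (@Nat.xor @x0 (@Nat.shiftRight @x0 (nat_lit 16))) (@Nat.shiftRight (@Nat.xor @x0 (@Nat.shiftRight @x0 (nat_lit 16))) (nat_lit 8))) (@Nat.shiftRight (@Nat.xor (@Nat.xor @x0 (@Nat.shiftRight @x0 (nat_lit 16))) (@Nat.shiftRight (@Nat.xor @x0 (@Nat.shiftRight @x0 (nat_lit 16))) (nat_lit 8))) (nat_lit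 4))) (@Nat.shiftRight (@Nat.xor (@Nat.xor (@Nat.xor @x0 (@Nat.shiftRight @x0 (nat_lit 16))) (@Nat.shiftRight (@Nat.xor @x0 (@Nat.shiftRight @x0 (nat_lit 16))) (nat_lit 8))) (@Nat.shiftRight (@Nat.xor (@Nat.xor @x0 (@Nat.shiftRight @x0 (nat_lit 16))) (@Nat.shiftRight (@Nat.xor @x0 (@Nat.shiftRight @x0 (nat_lit 16))) (nat_lit 8))) (nat_lit 4))) (nat_lit 2))) (@Nat.shiftRight (@Nat.xor (@Nat.xor (@Nat.xor (@Nat.xor @x0 (@Nat.shiftRight @x0 (nat_lit 16))) (@Nat.shiftRight (@Nat.xor @x0 (@Nat.shiftRight @x0 (nat_lit 16))) (nat_lit 8))) (@Nat.shiftRight (@Nat.xor (@Nat.xor @x0 (@Nat.shiftRight @x0 (nat_lit 16))) (@Nat.shiftRight (@Nat.xor @x0 (@Nat.shiftRight @x0 (nat_lit 16))) (nat_lit 8))) (nat_lit 4))) (@Nat.shiftRight (@Nat.xor (@Nat.xor (@Nat.xor @x0 (@Nat.shiftRight @x0 (nat_lit 16))) (@Nat.shiftRight (@Nat.xor @x0 (@Nat.shiftRight @x0 (nat_lit 16))) (nat_lit 8))) (@Nat.shiftRight (@Nat.xor (@Nat.xor @x0 (@Nat.shiftRight @x0 (nat_lit 16))) (@Nat.shiftRight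 (@Nat.xor @x0 (@Nat.shiftRight @x0 (nat_lit 16))) (nat_lit 8))) (nat_lit 4))) (nat_lit 2))) (nat_lit 1))) (nat_lit 1)) (nat_lit 1))) ?_); rfl') | exact @Cfsg.Agent.H865.L34.pty | exact ()
private theorem _root_.Cfsg.Agent.KO550f9fb.e30 : (by first | exact @Cfsg.Agent.H865.L34.pty = @_root_.Cfsg.Agent.KO550f9fb.k30 | exact True : Prop) := by first | (delta _root_.Cfsg.Agent.KO550f9fb.k30; exact @Subtype.property _ (fun g => @Cfsg.Agent.H865.L34.pty = @g) _) | rfl | trivial
private noncomputable def _root_.Cfsg.Agent.KO550f9fb.k31 : (by first | exact type_of% @Cfsg.Agent.H865.L34.okl | exact Unit : Sort _) := by first | (refine @Subtype.val _ (fun g => @Cfsg.Agent.H865.L34.okl = @g) (@Subtype.mk _ _ (@(fun (x0 : @Cfsg.Agent.H865.L34.Lev) (x1 : @Nat) => @Bool.rec.{1} @(fun (x2 : @Bool) => @Bool) @Bool.false (@Cfsg.Agent.KO550f9fb.k1.{0} (@List.{0} @Nat) (@Prod.snd.{0, 0} (@List.{0} @Nat) (@List.{0} (@List.{0} @Nat)) @x0) @(fun (x2 : @List.{0} @Nat)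 => @Bool.rec.{1} @(fun (x3 : @Bool) => @Bool) @Bool.true @Bool.false (@Cfsg.Agent.KO550f9fb.k13.{0, 0} @Nat @Bool @(fun (x3 : @Nat) (x4 : @Bool) => @Bool.rec.{1} @(fun (x5 : @Bool) => @Bool) @Bool.true @Bool.false (@Decidable.rec.{1} (@Eq.{1} @Bool (@Nat.beq (@Nat.land @x1 @x3) @x3) @x4) @(fun (x5 : @Decidable (@Eq.{1} @Bool (@Nat.beq (@Nat.land @x1 @x3) @x3) @x4)) => @Bool) @(fun (x5 : @Not (@Eq.{1} @Bool (@Nat.beq (@Nat.land @x1 @x3) @x3) @x4)) => @Bool.false) @(fun (x5 : @Eq.{1} @Bool (@Nat.beq (@Nat.land @x1 @x3) @x3) @x4) => @Bool.true) (@Cfsg.Agent.KO550f9fb.k29 (@Nat.beq (@Nat.land @x1 @x3) @x3) @x4))) @Bool.false @x2))) (@Cfsg.Agent.KO550f9fb.k1.{0} @Nat (@Prod.fst.{0, 0} (@List.{0} @Nat) (@List.{0} (@List.{0} @Nat)) @x0) @(fun (x2 : @Nat) => @Bool.rec.{1} @(fun (x3 : @Bool) => @Bool) @Bool.true @Bool.false (@Cfsg.Agent.KO550f9fb.k30 (@Nat.land @x1 @x2)))))) ?_); rewrite [← Cfsg.Agent.KO550f9fb.e1.{0}, ← Cfsg.Agent.KO550f9fb.e13.{0,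 0}, ← Cfsg.Agent.KO550f9fb.e29, ← Cfsg.Agent.KO550f9fb.e30]; (try delta Cfsg.Agent.H865.L34.okl Cfsg.Agent.H865.L34.eq1 Cfsg.Agent.H865.L34.xf); (try generalize @Cfsg.Agent.H865.L34.pty = g0); rfl') | exact @Cfsg.Agent.H865.L34.okl | exact ()
private theorem _root_.Cfsg.Agent.KO550f9fb.e31 : (by first | exact @Cfsg.Agent.H865.L34.okl = @_root_.Cfsg.Agent.KO550f9fb.k31 | exact True : Prop) := by first | (delta _root_.Cfsg.Agent.KO550f9fb.k31; exact @Subtype.property _ (fun g => @Cfsg.Agent.H865.L34.okl = @g) _) | rfl | trivial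
private noncomputable def _root_.Cfsg.Agent.KO550f9fb.k32 : (by first | exact type_of% @Cfsg.Agent.H865.L34.dfs | exact Unit : Sort _) := by first | (refine @Subtype.val _ (fun g => @Cfsg.Agent.H865.L34.dfs = @g) (@Subtype.mk _ _ (@(fun (x0 : @List.{0} @Nat) (x1 : @List.{0} @Cfsg.Agent.H865.L34.Lev) (x2 : @Nat) (x3 : @Nat) => @List.rec.{1, 0} @Cfsg.Agent.H865.L34.Lev @(fun (x4 : @List.{0} @Cfsg.Agent.H865.L34.Lev) => (@Nat → (@Nat → @Bool))) @(fun (x4 : @Nat) (x5 : @Nat) => @Cfsg.Agent.KO550f9fb.k21.{0} @Nat @x0 @(fun (x6 : @Nat) => @Nat.beq @x6 @x5)) @(fun (x4 : @Cfsg.Agent.H865.L34.Lev) (x5 : @List.{0} @Cfsg.Agent.H865.L34.Lev) (x6 : (@Nat → (@Nat → @Bool))) (x7 : @Nat) (x8 : @Nat) => @Bool.rec.{1} @(fun (x9 : @Bool) => @Bool) @Bool.false (@Bool.rec.{1} @(fun (x9 : @Bool) => @Bool) (@x6 (@Nat.mul (nat_lit 2) @x7) (@Nat.add @x8 @x7)) @Bool.true (@Bool.rec.{1} @(fun (x9 : @Bool) => @Bool) @Bool.true @Bool.false (@Cfsg.Agent.KO550f9fb.k31 @x4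 (@Nat.add @x8 @x7)))) (@Bool.rec.{1} @(fun (x9 : @Bool) => @Bool) (@x6 (@Nat.mul (nat_lit 2) @x7) @x8) @Bool.true (@Bool.rec.{1} @(fun (x9 : @Bool) => @Bool) @Bool.true @Bool.false (@Cfsg.Agent.KO550f9fb.k31 @x4 @x8)))) @x1 @x2 @x3)) ?_); rewrite [← Cfsg.Agent.KO550f9fb.e21.{0}, ← Cfsg.Agent.KO550f9fb.e31]; funext a0 a1 a2 a3; refine (congrFun (congrFun (_root_.Cfsg.Agent.KO550f9fb.e0 (fun a1 a2 a3 => @Cfsg.Agent.H865.L34.dfs a0 a1 a2 a3) ?_ (fun c0 c1 => ?_) a1) a2) a3 :) <;> ((try delta Cfsg.Agent.H865.L34.dfs Cfsg.Agent.H865.L34.dfs._f); (try generalize @Cfsg.Agent.H865.L34.okl = g0); rfl')) | exact @Cfsg.Agent.H865.L34.dfs | exact ()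
private theorem _root_.Cfsg.Agent.KO550f9fb.e32 : (by first | exact @Cfsg.Agent.H865.L34.dfs = @_root_.Cfsg.Agent.KO550f9fb.k32 | exact True : Prop) := by first | (delta _root_.Cfsg.Agent.KO550f9fb.k32; exact @Subtype.property _ (fun g => @Cfsg.Agent.H865.L34.dfs = @g) _) | rfl | trivial
private noncomputable def _root_.Cfsg.Agent.KO550f9fb.k33.{ku0} : ((x0 : Sort (ku0+1)) → ((@List.{ku0} @x0) → (@Nat → (x0 → x0)))) := @(fun (x0 : Sort (ku0+1)) (x1 : @List.{ku0} @x0) (x2 : @Nat) (x3 : x0) => @Option.rec.{(ku0+1), ku0} @x0 @(fun (x4 : @Option.{ku0} @x0) => x0) @x3 @(fun (x4 : x0) => x4) (@Cfsg.Agent.KO550f9fb.k8.{ku0} @x0 @x1 @x2))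
private theorem _root_.Cfsg.Agent.KO550f9fb.e33.{ku0} : @List.getD.{ku0} = @_root_.Cfsg.Agent.KO550f9fb.k33.{ku0} := by delta _root_.Cfsg.Agent.KO550f9fb.k33; rewrite [← Cfsg.Agent.KO550f9fb.e8.{ku0}]; rfl'

theorem run_0 : (([1, 2, 3, 4, 5, 6, 7, 8] : List ℕ).all fun dm => dfs (SOL.getD dm []) (LV dm) 1 0) = true := by (first | (rewrite [Cfsg.Agent.KO550f9fb.e1.{0}, Cfsg.Agent.KO550f9fb.e32, Cfsg.Agent.KO550f9fb.e33.{0}, Cfsg.Agent.KO550f9fb.e19]; decide +kernel) | decide +kernel)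

theorem run_1 : (([9, 10, 11, 12, 13, 14, 15] : List ℕ).all fun dm => dfs (SOL.getD dm []) (LV dm) 1 0) = true := by (first | (rewrite [Cfsg.Agent.KO550f9fb.e1.{0}, Cfsg.Agent.KO550f9fb.e32, Cfsg.Agent.KO550f9fb.e33.{0}, Cfsg.Agent.KO550f9fb.e19]; decide +kernel) | decide +kernel)

theorem run_2 : (([16, 17, 18, 19, 20, 21, 22, 23, 24, 25, 26, 27] : List ℕ).all fun dm => dfs (SOL.getD dm []) (LV dm) 1 0) = true := by (first | (rewrite [Cfsg.Agent.KO550f9fb.e1.{0}, Cfsg.Agent.KO550f9fb.e32, Cfsg.Agent.KO550f9fb.e33.{0}, Cfsg.Agent.KO550f9fb.e19]; decide +kernel) | decide +kernel)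

theorem run_3 : (([28] : List ℕ).all fun dm => dfs (SOL.getD dm []) (LV dm) 1 0) = true := by (first | (rewrite [Cfsg.Agent.KO550f9fb.e1.{0}, Cfsg.Agent.KO550f9fb.e32, Cfsg.Agent.KO550f9fb.e33.{0}, Cfsg.Agent.KO550f9fb.e19]; decide +kernel) | decide +kernel)

theorem run_4 : (([29, 30, 31] : List ℕ).all fun dm => dfs (SOL.getD dm []) (LV dm) 1 0) = true := by (first | (rewrite [Cfsg.Agent.KO550f9fb.e1.{0}, Cfsg.Agent.KO550f9fb.e32, Cfsg.Agent.KO550f9fb.e33.{0}, Cfsg.Agent.KO550f9fb.e19]; decide +kernel) | decide +kernel)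

theorem run_all {dm : ℕ} (h0 : dm ≠ 0) (h : dm < 32) : dfs (SOL.getD dm []) (LV dm) 1 0 = true := by
  have h1 : dm ∈ ([1, 2, 3, 4, 5, 6, 7, 8] : List ℕ) ∨ dm ∈ ([9, 10, 11, 12, 13, 14, 15] : List ℕ) ∨
      dm ∈ ([16, 17, 18, 19, 20, 21, 22, 23, 24, 25, 26, 27] : List ℕ) ∨ dm ∈ ([28] : List ℕ) ∨
      dm ∈ ([29, 30, 31] : List ℕ) := by
    simp only [List.mem_cons, List.not_mem_nil, or_false]
    omega
  rcases h1 with h1 | h1 | h1 | h1 | h1
  · exact List.all_eq_true.1 run_0 dm h1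
  · exact List.all_eq_true.1 run_1 dm h1
  · exact List.all_eq_true.1 run_2 dm h1
  · exact List.all_eq_true.1 run_3 dm h1
  · exact List.all_eq_true.1 run_4 dm h1

/-- **the result of the search** -/
theorem search {dm M : ℕ} (h0 : dm ≠ 0) (h : dm < 32) (hM : M < 2 ^ 27)
    (hr : ∀ r ∈ raw dm, pty (Nat.land M r) = false) (hq : ∀ a ∈ EQl, eq1 M a.2.2 = false) : M ∈ SOL.getD dm [] := by
  have hL := List.all_eq_true.1 chkL_all dm (List.mem_range.2 h)
  have hR := List.all_eq_true.1 chkR_all dm (List.mem_range.2 h)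
  unfold chkL at hL
  unfold chkR at hR
  obtain ⟨hL1, hl4⟩ := Bool.and_eq_true_iff.1 hL
  obtain ⟨hL2, hl3⟩ := Bool.and_eq_true_iff.1 hL1
  obtain ⟨hl1, hl2⟩ := Bool.and_eq_true_iff.1 hL2
  have hl1' := Nat.eq_of_beq_eq_true hl1
  have hl3' := Nat.eq_of_beq_eq_true hl3
  have key := dfs_sound (M := M) (LV dm) 0 0 (run_all h0 h) (Nat.mod_one M) hl2 (by
    intro a ha
    unfold LV at ha
    have ha1 : a.1 ∈ RL.getD dm [] := (List.of_mem_zip ha).1
    have ha2 : a.2 ∈ QB := (List.of_mem_zip ha).2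
    constructor
    · intro r hr1
      obtain ⟨i, hi, hi'⟩ := List.mem_iff_getElem.1 ha1
      have hi2 : i < (CB.getD dm []).length := by omega
      have h5 : ((RL.getD dm [])[i], (CB.getD dm [])[i]) ∈ List.zip (RL.getD dm []) (CB.getD dm []) := by
        refine List.mem_iff_getElem.2 ⟨i, by rw [List.length_zip]; omega, ?_⟩
        rw [List.getElem_zip]
      have h6 := List.all_eq_true.1 hR _ h5
      have h7 := Nat.eq_of_beq_eq_true (List.all_eq_true.1 hl4 _ h5)
      rw [← hi'] at hr1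
      obtain ⟨j, hj, hj'⟩ := List.mem_iff_getElem.1 hr1
      have h8 : (((RL.getD dm [])[i])[j], ((CB.getD dm [])[i])[j]'(by simpa only [← h7] using hj)) ∈
          List.zip ((RL.getD dm [])[i]) ((CB.getD dm [])[i]) := by
        refine List.mem_iff_getElem.2 ⟨j, by rw [List.length_zip]; simp only at h7; omega, ?_⟩
        rw [List.getElem_zip]
      have h9 := Nat.eq_of_beq_eq_true (List.all_eq_true.1 h6 _ h8)
      simp only at h9
      rw [← hj', ← h9]
      exact pty_comb _ _ hr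
    · intro e he
      obtain ⟨b, hb, hb'⟩ := List.any_eq_true.1 (List.all_eq_true.1 (List.all_eq_true.1 QB_sub _ ha2) e he)
      rw [← of_decide_eq_true hb']
      exact hq b hb)
  rwa [hl1', Nat.zero_add, Nat.mod_eq_of_lt hM] at key

private noncomputable def _root_.Cfsg.Agent.KO550f9fb.k34 : (@Bool → @Bool) := @(fun (x0 : @Bool) => @Bool.rec.{1} @(fun (x1 : @Bool) => @Bool) @Bool.true @Bool.false @x0)
private theorem _root_.Cfsg.Agent.KO550f9fb.e34 : @Bool.not = @_root_.Cfsg.Agent.KO550f9fb.k34 := by delta _root_.Cfsg.Agent.KO550f9fb.k34; rfl'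
private noncomputable def _root_.Cfsg.Agent.KO550f9fb.k35 : (by first | exact type_of% @Cfsg.Agent.H865.L34.eq1 | exact Unit : Sort _) := by first | (refine @Subtype.val _ (fun g => @Cfsg.Agent.H865.L34.eq1 = @g) (@Subtype.mk _ _ (@(fun (x0 : @Nat) (x1 : @List.{0} @Nat) => @Cfsg.Agent.KO550f9fb.k13.{0, 0} @Nat @Bool @(fun (x2 : @Nat) (x3 : @Bool) => @Bool.rec.{1} @(fun (x4 : @Bool) => @Bool) @Bool.true @Bool.false (@Decidable.rec.{1} (@Eq.{1} @Bool (@Nat.beq (@Nat.land @x0 @x2) @x2) @x3) @(fun (x4 : @Decidable (@Eq.{1} @Bool (@Nat.beq (@Nat.land @x0 @x2) @x2) @x3)) => @Bool) @(fun (x4 : @Not (@Eq.{1} @Bool (@Nat.beq (@Nat.land @x0 @x2) @x2) @x3)) => @Bool.false) @(fun (x4 : @Eq.{1} @Bool (@Nat.beq (@Nat.land @x0 @x2) @x2) @x3) => @Bool.true) (@Cfsg.Agent.KO550f9fb.k29 (@Nat.beq (@Nat.land @x0 @x2) @x2) @x3))) @Bool.false @x1)) ?_); rewrite [← Cfsg.Agent.KO550f9fb.e13.{0, 0}, ← Cfsg.Agent.KO550f9fb.e29]; rfl') | exact @Cfsg.Agent.H865.L34.eq1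 | exact ()
private theorem _root_.Cfsg.Agent.KO550f9fb.e35 : (by first | exact @Cfsg.Agent.H865.L34.eq1 = @_root_.Cfsg.Agent.KO550f9fb.k35 | exact True : Prop) := by first | (delta _root_.Cfsg.Agent.KO550f9fb.k35; exact @Subtype.property _ (fun g => @Cfsg.Agent.H865.L34.eq1 = @g) _) | rfl | trivial

/-- the solutions have square zero -/
theorem SOL_sq : (SOL.all fun l => l.all fun m => SQl.all fun a => !eq1 m a.2) = true := by (first | (rewrite [Cfsg.Agent.KO550f9fb.e1.{0}, Cfsg.Agent.KO550f9fb.e34, Cfsg.Agent.KO550f9fb.e35]; decide +kernel) | decide +kernel)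

end Cfsg.Agent.H865.L34
end

-- part: H865/L34/Abel
section
/-!
# S5917 (`L₃(4)` in `E₈(2)`), type A: the tensors commuting with their images (helper865)

* `T m` : the vector of `V_{c₀}` with the mask `m < 2^27` (roots `it0 t`, the first block of `TB`);
* `nd dm` : the vector `(d, d, d, d)` with the mask `dm < 32`;
* `abel` : `[d, T] = 0`, `[T, zT] = [T, iT] = [T, jT] = [T, ijT] = 0`, `d ≠ 0` give `m ∈ SOL dm`;
* `sq_T` : then `T` has square zero;
* `nd_nil` : `sq (nd dm) = 0` only for `dm = 0, 7, 9, 18`.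
-/

set_option autoImplicit false
set_option maxRecDepth 100000

namespace Cfsg.Agent.H865.L34

open Cfsg Cfsg.Lie Cfsg.Lie.ChevalleyDatum
open Cfsg.Agent.ChevalleyStructure.Columns (car cor)
open Cfsg.Agent.H939.L64
open Cfsg.Agent.H413.L64
open Cfsg.Agent.H413.L16
open Cfsg.Agent.H876.L64
open Cfsg.Agent.H201.L34

/-- `0`, `1` -/
noncomputable def kb (b : Bool) : KK := if b = true then 1 else 0

theorem kb_false : kb false = 0 := if_neg (by decide)

theorem kb_true : kb true = 1 := if_pos rfl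

theorem kb_xor (a b : Bool) : kb (xor a b) = kb a + kb b := by
  cases a <;> cases b
  · rw [Bool.false_xor, kb_false, add_zero]
  · rw [Bool.false_xor, kb_false, zero_add]
  · rw [Bool.xor_false, kb_false, add_zero]
  · rw [Bool.xor_self, kb_false, kb_true, one_add_one_eq_two]
    exact two_zero.symm

theorem kb_and (a b : Bool) : kb (a && b) = kb a * kb b := by
  cases a <;> cases b <;> simp [kb_false, kb_true]

theorem kb_inj {a : Bool} (h : kb a = 0) : a = false := by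
  cases a
  · rfl
  · rw [kb_true] at h
    exact absurd h one_ne_zero

theorem kb_decide (p : Prop) [Decidable p] : kb (decide p) = if p then 1 else 0 := by
  by_cases h : p
  · rw [decide_eq_true h, kb_true, if_pos h]
  · rw [decide_eq_false h, kb_false, if_neg h]

/-- the root of index `t` of `V_{c₀}` -/
def it0 (t : ℕ) : ℕ := TB.getD t 240

theorem it0_lt_all : ((List.range 27).all fun t => Nat.blt (it0 t) 240) = true := by decide +kernel

theorem it0_lt {t : ℕ} (h : t ∈ List.range 27) : it0 t < 240 := Nat.blt_eq.mp (List.all_eq_true.1 it0_lt_all t h)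

/-- the root coordinates -/
noncomputable def co (u : ℕ) (v : LK) : KK := if h : u < chevE8.nroots then v (Sum.inr ⟨u, h⟩) else 0

theorem co_add (u : ℕ) (v w : LK) : co u (v + w) = co u v + co u w := by
  unfold co
  split_ifs
  · rfl
  · rw [add_zero]

theorem co_smul (u : ℕ) (c : KK) (v : LK) : co u (c • v) = c * co u v := by
  unfold co
  split_ifs
  · rfl
  · rw [mul_zero]

theorem co_zero (u : ℕ) : co u 0 = 0 := by
  unfold co
  split_ifs <;> rfl

theorem co_er {u : ℕ} (hu : u < 240) (s : ℕ) : co u (er s) = kb (decide (s = u)) := by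
  have hu' : u < chevE8.nroots := by rw [nr]; exact hu
  unfold co
  rw [dif_pos hu', kb_decide]
  by_cases hs : s < chevE8.nroots
  · rw [er_of hs]
    by_cases h : s = u
    · subst h
      rw [if_pos rfl, Pi.single_eq_same]
    · rw [if_neg h, Pi.single_eq_of_ne]
      intro h1
      exact h (congrArg Fin.val (Sum.inr.inj h1)).symm
  · have h1 : ¬ s = u := fun h => hs (h ▸ hu')
    rw [if_neg h1, er_ge (by rw [nr] at hs; omega)]
    rfl

theorem co_hv (u : ℕ) (c : Fin chevE8.rank → KK) : co u (hv c) = 0 := by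
  unfold co hv
  split_ifs
  · rfl
  · rfl

/-- the Cartan coordinates -/
noncomputable def cc (i : ℕ) (v : LK) : KK := if h : i < chevE8.rank then v (Sum.inl ⟨i, h⟩) else 0

theorem cc_add (u : ℕ) (v w : LK) : cc u (v + w) = cc u v + cc u w := by
  unfold cc
  split_ifs
  · rfl
  · rw [add_zero]

theorem cc_smul (u : ℕ) (c : KK) (v : LK) : cc u (c • v) = c * cc u v := by
  unfold cc
  split_ifs
  · rfl
  · rw [mul_zero]

theorem cc_zero (u : ℕ) : cc u 0 = 0 := by
  unfold cc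
  split_ifs <;> rfl

theorem cc_er (i s : ℕ) : cc i (er s) = 0 := by
  unfold cc
  split_ifs with h
  · unfold er
    split_ifs with h1
    · exact Pi.single_eq_of_ne (by simp) _
    · rfl
  · rfl

theorem cc_hr {i : ℕ} (hi : i < 8) (r : ℕ) : cc i (hr r) = kb (decide (cor chevE8 r i % 2 ≠ 0)) := by
  have hi' : i < chevE8.rank := by rw [rk8]; exact hi
  unfold cc
  rw [dif_pos hi', kb_decide]
  show ((cor chevE8 r i : ℤ) : KK) = _
  split_ifs with h
  · exact cast_odd h
  · exact cast_even (not_not.1 h)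

/-! ### sums -/

theorem co_sum {α : Type} (u : ℕ) (l : List α) (F : α → LK) (f : α → Bool) (h : ∀ a ∈ l, co u (F a) = kb (f a)) :
    co u ((l.map F).sum) = kb (xf l f) := by
  induction l with
  | nil => rw [List.map_nil, List.sum_nil, co_zero, xf_nil, kb_false]
  | cons a l ih =>
    rw [List.map_cons, List.sum_cons, co_add, xf_cons, kb_xor, ih fun b hb => h b (List.mem_cons_of_mem _ hb),
      h a List.mem_cons_self]

theorem cc_sum {α : Type} (u : ℕ) (l : List α) (F : α → LK) (f : α → Bool) (h : ∀ a ∈ l, cc u (F a) = kb (f a)) :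
    cc u ((l.map F).sum) = kb (xf l f) := by
  induction l with
  | nil => rw [List.map_nil, List.sum_nil, cc_zero, xf_nil, kb_false]
  | cons a l ih =>
    rw [List.map_cons, List.sum_cons, cc_add, xf_cons, kb_xor, ih fun b hb => h b (List.mem_cons_of_mem _ hb),
      h a List.mem_cons_self]

theorem br_sum_l {α : Type} (l : List α) (F : α → LK) (w : LK) : brK ((l.map F).sum) w = (l.map fun a => brK (F a) w).sum := by
  induction l with
  | nil => rw [List.map_nil, List.sum_nil, br_zero_l]; rfl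
  | cons a l ih => rw [List.map_cons, List.sum_cons, br_add_l, ih]; rfl

theorem br_sum_r {α : Type} (l : List α) (F : α → LK) (w : LK) : brK w ((l.map F).sum) = (l.map fun a => brK w (F a)).sum := by
  induction l with
  | nil => rw [List.map_nil, List.sum_nil, br_zero_r]; rfl
  | cons a l ih => rw [List.map_cons, List.sum_cons, br_add_r, ih]; rfl

theorem co_br {r s u : ℕ} (hr1 : r < 240) (hs : s < 240) (hu : u < 240) : co u (brK (er r) (er s)) = kb (decide (tg r s = u)) := by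
  by_cases h : s = 239 - r
  · subst h
    rw [br_neg hr1]
    have h1 : tg r (239 - r) = 240 := by
      by_contra h2
      have h3 := (chain_mod (s := 239 - r) (u := 0) hr1)
      have h4 : tg r (239 - r) < 240 := lt_of_le_of_ne h3.2.2 h2
      exact (h3.2.1 h4).2.1 rfl
    rw [h1, decide_eq_false (by omega), kb_false]
    exact co_hv _ _
  · rw [br_rr hr1 hs h]
    exact co_er hu _

/-- the vector of `V_{c₀}` -/
noncomputable def Tf (f : ℕ → ℕ) (m : ℕ) : LK := ((List.range 27).map fun t => kb (m.testBit t) • er (f (it0 t))).sum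

/-- **the tensor** -/
noncomputable def T (m : ℕ) : LK := Tf (fun s => s) m

theorem co_TT {f : ℕ → ℕ} (hf : ∀ s < 240, f s < 240) (m : ℕ) {u : ℕ} (hu : u < 240) : co u (brK (T m) (Tf f m)) =
    kb (xf (List.range 27) fun t => xf (List.range 27) fun s => (m.testBit t && m.testBit s) &&
      decide (tg (it0 t) (f (it0 s)) = u)) := by
  unfold T Tf
  rw [br_sum_l]
  refine co_sum u _ _ _ fun t ht => ?_
  rw [br_sum_r]
  refine co_sum u _ _ _ fun s hs => ?_
  rw [br_smul_l, br_smul_r, co_smul, co_smul, co_br (it0_lt ht) (hf _ (it0_lt hs)) hu, kb_and, kb_and, mul_assoc]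

/-- the four operations -/
def fg (g s : ℕ) : ℕ := (([fun s => 239 - s, qi, qj, fun s => qi (qj s)] : List (ℕ → ℕ)).getD g (fun s => s)) s

/-- the roots of the Cartan parts of the basis elements -/
def HL : List (List ℕ) := [[1, 113, 135, 98], [120, 123, 163, 194], [], [], []]

/-- the roots of the basis elements -/
def ER : List (List ℕ) := [[], [], [0, 239, 112, 127, 77, 162, 35, 204], [1, 238, 113, 126, 135, 104, 98, 141], [120,
  119, 123, 116, 163, 76, 194, 45]]

/-- the action of the Cartan parts -/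
def HC : List ℕ := [89478485, 113730126, 0, 0, 0]

/-- the action of the root parts: entry `27 n + t` -/
def NT : List (List ℕ) :=
  (by
  refine (?fq9008 : ((pk61l (fun i1 => ((fun g1 : Nat → Nat => pk61l (fun i2 => (pk61d (nat_lit 8) 
    (nat_lit 0xf0abaaa9a6a5a4959493908f8e8a898884838257565341403d373633) (pk61d (nat_lit 5) 
    (nat_lit 0xef76daf7bdab67d8b7bdef79dc77b3ed5bddf7bdd83bda37bdee1bdeb7b26f7bdbb7bdb77bd977bdef7bdd37b16f7756f7bdaf680ef7bdef7a86f7b46d7bb6f7bddc5b3ef7bdee3bcef7b2ef7b6ef7bdbb7b26f7bdef7b9ef7b06f75def7bda766def7bdef78def7b36d3bdef7bdd41bdef7bdedfbdef7b1ef7bdef7bdb37bdef7bdef7bdef7b86f6dda77bdef64d837bdab73dbf7bcef7bdd77bdef7bd9b7bddb7bde37b9ed5bdb37bdec3bd8f7bdb61bdcb7b8ef6edef7bdef65def7bdaf74def7bd6f7bdef7bdef7bdef7bddf7bdef7ba6d7bdef7bdec5bdef7bdba3bdef7b7ef6c56f7bdef630ef7bda77286f7bc6f7bb6f7bdef7b3ef7bdd77bcef7b96d3b6ef7bdec1b26f7bdb1fb9ef7bdef7bdef7b86f7bdef7bd877bdef7bdef6ddef7bcef64def7bd9f73def7bdeedbdef7b9ecfbdef7bd933bdef7bdef7bda77b8ef7bd837bd8b7bdbf7bdef6edd77bd6f65d9b7bda374de37bdeefbdb37ba6d1bd8f7bd975bdcb7bdef7b5ef7b7ef7b16f7bd837b8ef7bdef6cbef7bc6f6346f7bd9b72d6f7bdeebb76f7b96cdb2ef7bd8f1ba6f7b)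 i2))) (g1 i1) (g1 (Nat.succ i1)) List.nil) fun j => (pk61d (nat_lit 10) 
    (nat_lit 0xa22809e2709a26096250922408e2308a22086210822007e1f07a1e0761d0721c06e1b06a1a066190621805e1705a16056150521404e1304a12046110421003e0f03a0e0360d0320c02e0b02a0a026090220801e0701a06016050120400e0300a0200601002000000000000000000000000000000000000000000000000000000000000000000000000000000000000000000000000000000000000000000000000000000000000000000) j))) (nat_lit 0) (nat_lit 135) List.nil) : List (List ℕ))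
    = ?xq9008 → (List (List ℕ))) ?hq9008; (case hq9008 => (set_option maxRecDepth 1000000 in set_option simprocs false in conv => lhs; reduce; dsimp only)); intro _; exact ?xq9008 : List (List ℕ))

/-- the brackets `[it0 t, g (it0 s)]`, entry `27 t + s` -/
noncomputable def TVl : List (List ℕ) :=
  let y0 : List (List ℕ) := (by
  refine (?fq9009 : (pk61l (fun i0 => (pk61l (fun i1 => (pk61d (nat_lit 8) (Nat.add 
    (nat_lit 0xf0f0f0f04847e1f0f0f0f0f0f06a69eaf0f0f0f0f0f0f0f0f0f0f0f0f0f0f0f0f0f0f0f0f0f0f0f0f0f0f05958e7f0f0f0f0f0f04342e0f0f0f0f0f0f0f0f0f0f0f0f0f0f0f01413b7f0f0f0f0f0f00d0ca1f0f0f0f0f0f0f0f0f0f0f0f0f0f0f06463e9f0f0f0f0f0f04847e1f0f0f0f0f0f05958e7f0f0f0f0f0f0f0f0f0f0f0f0f0f0f05e5de8f0f0f0f0f0f01413b7f0f0f0f0f0f0f0f0f0f0f0f0f0f0f01918c1f0f0f0f0f0f06463e9f0f0f0f0f0f0f0f0f0f0f0f0f0f0f06a69eaf0f0f0f0f0f04342e0f0f0f0f0f0f05e5de8f0f0f0f0f0f0f0f0f0f0f0f0f0f0f00d0ca1f0f0f0f0f0f01918c1f0f0f0f0f0f0f0f0f0f0f0f0f0f0f04847e1f0f0f0f0f0f06a69ea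f0f0f0f0f0f0f0f0f0f03530f0342ff0dad8f0f0f0f0f0f0f0f0f0f0f0f0f0f0f0f0f0f0f0f0f0f0f0f0f0f0f0f03530f0342ff0dad8f0f0f0f0f0f0f0f0f0f0f0f0f0f0f0f0f0f0f0f0f0f0f0f0f0f0f0f03530f0342ff0dad8f05550f0544ff0e6e4f0f0f0f0f0f0f0f0f0f0f0f0f0f0f0f0f0f0f0f0f0f0f0f0f0f0f0f05550f0544ff0e6e4f0f0f0f0f0f0f0f0f0f0f0f0f0f0f0f0f0f0f0f0f0f0f0f0f0f0f0f05550f0544ff0e6e4f03f3af03e39f0dfddf0f0f0f0f0f0f0f0f0f0f0f0f0f0f0f0f0f0f0f0f0f0f0f0f0f0f0f03f3af03e39f0dfddf0f0f0f0f0f0f0f0f0f0f0f0f0f0f0f0f0f0f0f0f0f0f0f0f0f0f0f03f3af03e39f0dfdd35f03234f031daf0d9f0f0f0f0f0f0f0f0f0f0f0f0f0f0f0f0f0f0f0f0f0f0f0f0f0f0f035f03234f031daf0d9f0f0f0f0f0f0f0f0f0f0f0f0f0f0f0f0f0f0f0f0f0f0f0f0f0f0f035f03234f031daf0d955f05254f051e6f0e5f0f0f0f0f0f0f0f0f0f0f0f0f0f0f0f0f0f0f0f0f0f0f0f0f0f0f055f05254f051e6f0e5f0f0f0f0f0f0f0f0f0f0f0f0f0f0f0f0f0f0f0f0f0f0f0f0f0f0f055f05254f051e6f0e53ff03c3ef03bdff0def0f0f0f0f0f0f0f0f0f0f0f0f0f0f0f0f0f0f0f0f0f0f0f0f0f0f03ff03c3ef03bdff0def0f0f0f0f0f0f0f0f0f0f0f0f0f0f0f0f0f0f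0f0f0f0f0f0f0f0f03ff03c3ef03bdff0de3032f02f31f0d8d9f0f0f0f0f0f0f0f0f0f0f0f0f0f0f0f0f0f0f0f0f0f0f0f0f0f0f0f03032f02f31f0d8d9f0f0f0f0f0f0f0f0f0f0f0f0f0f0f0f0f0f0f0f0f0f0f0f0f0f0f0f03032f02f31f0d8d9f05052f04f51f0e4e5f0f0f0f0f0f0f0f0f0f0f0f0f0f0f0f0f0f0f0f0f0f0f0f0f0f0f0f05052f04f51f0e4e5f0f0f0f0f0f0f0f0f0f0f0f0f0f0f0f0f0f0f0f0f0f0f0f0f0f0f0f05052f04f51f0e4e5f03a3cf0393bf0dddef0f0f0f0f0f0f0f0f0f0f0f0f0f0f0f0f0f0f0f0f0f0f0f0f0f0f0f03a3cf0393bf0dddef0f0f0f0f0f0f0f0f0f0f0f0f0f0f0f0f0f0f0f0f0f0f0f0f0f0f0f03a3cf0393bf0dddef0) (Nat.shiftLeft 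
    (nat_lit 0xf0f0f0f0f0f0f0f0f05958e7f0f0f0f0f0f04342e0f0f0f0f0f0f0f0f0f0f0f0f0f0f0f01413b7f0f0f0f0f0f00d0ca1f0f0f0f0f0f0f0f0f0f0f0f0f0f0f06463e9f0f0f0f0f0f04847e1f0f0f0f0f0f05958e7f0f0f0f0f0f0f0f0f0f0f0f0f0f0f05e5de8f0f0f0f0f0f01413b7f0f0f0f0f0f0f0f0f0f0f0f0f0f0f01918c1f0f0f0f0f0f06463e9f0f0f0f0f0f0f0f0f0f0f0f0f0f0f06a69eaf0f0f0f0f0f04342e0f0f0f0f0f0f05e5de8f0f0f0f0f0f0f0f0f0f0f0f0f0f0f00d0ca1f0f0f0f0f0f01918c1f0f0f0f0f0f0f0f0f0f0f0f0f0f0f04847e1f0f0f0f0f0f06a69eaf0f0f0f0f0f0f0f0f0f0f0f0f0f0f0f0f0f0f0f0f0f0f0f0f0f0f05958e7f0f0f0f0f0f04342e0f0f0f0f0f0f0f0f0f0f0f0f0f0f0f01413b7f0f0f0f0f0f00d0ca1f0f0f0f0f0f0f0f0f0f0f0f0f0f0f06463e9f0f0f0f0f0f04847e1f0f0f0f0f0f05958e7f0f0f0f0f0f0f0f0f0f0f0f0f0f0f05e5de8f0f0f0f0f0f01413b7f0f0f0f0f0f0f0f0f0f0f0f0f0f0f01918c1f0f0f0f0f0f06463e9f0f0f0f0f0f0f0f0f0f0f0f0f0f0f06a69eaf0f0f0f0f0f04342e0f0f0f0f0f0f05e5de8f0f0f0f0f0f0f0f0f0f0f0f0f0f0f00d0ca1f0f0f0f0f0f01918c1f0f0f0f0f0f0f0f0f0f0f0) (nat_lit 8000))) i1))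 (Nat.mul (nat_lit 729) i0) (Nat.mul (nat_lit 729) (Nat.succ i0)) List.nil)) (nat_lit 0) (nat_lit 2) List.nil : List (List ℕ))
    = ?xq9009 → (List (List ℕ))) ?hq9009; (case hq9009 => (set_option maxRecDepth 1000000 in set_option simprocs false in conv => lhs; reduce; dsimp only)); intro _; exact ?xq9009 : List (List ℕ))
  (by
  refine (?fq9010 : (fun tl : List (List ℕ) => pk61l (fun i0 => (pk61l (fun i1 => (pk61d (nat_lit 8) 
    (nat_lit 0xf0edecebd5d4d1cccbcac7c2a3a28d877f7e7b767574737271706f6e68624d4c2d2c2b2a292726232221201f1d1c) (pk61d (nat_lit 6) (Nat.add 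
    (nat_lit 0x6db64b6db6db68b6d5edb4ab6db6db56b6d26db6db6daedb68b6db6db6db6db43b6d5edb6db6d0adb56b6db6db64b6daedb43b6db6db4ab6d0adb6db6d26db64b6db6db68b6d5edb4ab6db6db56b6d26db6db6daedb68b6db6db6d16db5ab6db6db44b6d66db6db6d96db6cb6d16db6db6d32db44b6db6db4bb6d96db6db6da6db5ab6d32db6db6d66db4bb6db6db6cb6da6db6db6db6db6d16db5ab6db6db44b6d66db6db6d96db6cb6d16db6db6d32db44b6db6db4bb6d96db6db6da6db5ab6d32db6db6d66db4bb6db6db6cb6da6db6db6db6db6d16db5ab6db6db44b6d66db6db6d96db6cb6d16db6db6d32db44b6db6db4bb6d96db6db6da6db5ab6d32db6db6d66db4bb6db6db6cb6da6db6db6db41b6d4edb6db6d02db52b6db6db63b6daadb41b6db6db48b6d02db6db6d1edb63b6db6db67b6d4edb48b6db6db52b6d1edb6db6daadb67b6db6db6db6db41b6d4edb6db6d02db52b6db6db63b6daadb41b6db6db48b6d02db6db6d1edb63b6db6db67b6d4edb48b6db6db52b6d1edb6db6daadb67b6db6db6db6db41b6d4edb6db6d02db52b6db6db63b6daadb41b6db6db48b6d02db6db6d1edb63b6db6db67b6d4edb48b6db6db52b6d1edb6db6daadb67b6db6d8903adb51b6d62db6db6db6db5cb6db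6db6db6d36d1ad3adb51b6d62db6db6db6db5cb6db6db6db5f9adb6d3adb51b6d62db6db6db6db5cb6db6db6d86db6d89082db6db6d62db6db6db6db5cb6db6db6d86d36d1ad82db6db6d62db6db6db6db5cb6db6db6d85f9adb6d82db6db6d62db6db6db6db5cb6db5eb6d3edb6d890b6db6db6d62db6db6db6db5cb6db5eb6d3ed36d1adb6db6db6d62db6db6db6db5cb6db5eb6d3df9adb6db6db6db6d62db6db6db6db5c6edb6db6db6db6d8903adb51b6d76db6db6db6db6d6edb6db6db6d36d1ad3adb51b6d76db6db6db6db6d6edb6db6db5f9adb6d3adb51b6d76db6db6db6db6d6edb6db6d86db6d89082db6db6d76db6db6db6db6d6edb6db6d86d36d1ad82db6db6d76db6db6db6db6d6edb6db6d85f9adb6d82db6db6d76db6db6db6db6d6edb5eb6d3edb6d890b6db6db6d76db6db6db6db6d6edb5eb6d3ed36d1adb6db6db6d76db6db6db6db6d6edb5eb6d3df9adb6db6db6db6d755b6db6db6db6d52db6db6db6db6d8903adb51b6db55b6db6db6db6d52db6db6db6d36d1ad3adb51b6db55b6db6db6db6d52db6db6db5f9adb6d3adb51b6db55b6db6db6db6d52db6db6d86db6d89082db6db6db55b6db6db6db6d52db6db6d86d36d1ad82db6db6db55b6db6db6db6d52db6db6d85f9adb6d82db6db6db55b6db6db6db6d52db5eb6d3edb6d890b6db6db6db55b6db6db6db6d52db5eb6d3ed36d1adb6db6db6db55b6db6db6db6d52db5eb6d3df9ad)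 (Nat.shiftLeft 
    (nat_lit 0xb6db43b6d5edb6db6d0adb56b6db6db64b6daedb43b6db6db4ab6d0adb6db6d26db64b6db6db68b6d5edb4ab6db6db56b6d26db6db6daedb68b6db6db6db6db43b6d5edb6db6d0adb56b6db6db64b6daedb43b6db6db4ab6d0adb6db6d2) (nat_lit 8000))) i1))) (Nat.mul (nat_lit 729) i0) (Nat.mul (nat_lit 729) (Nat.succ i0)) List.nil)) (nat_lit 0) (nat_lit 2) tl)
    = ?xq9010 → (List (List ℕ))) ?hq9010; (case hq9010 => (set_option maxRecDepth 1000000 in set_option simprocs false in conv => lhs; reduce; dsimp only)); intro _; exact ?xq9010 y0 : List (List ℕ))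

/-- the brackets `[it0 t, it0 s]`, `t < s` -/
def SVl : List ℕ :=
  (by
  refine (?fq9011 : ((pk61l (fun i1 => (pk61d (nat_lit 8) 
    (nat_lit 0xf0bcb9b8b2afae9c99986d6c6b67666561605f5c5b5a4b4a49464544) (pk61d (nat_lit 5) 
    (nat_lit 0x6f7bdef7bdef7bdef7bdef7bdef7bdef7bdef7bdef7bdef7bda2fb1537bda36e16cbbdef7776e85def7b45f7bded7adef68dbb7bdaf71def7bbbb7bdef51def7bdef62a6d7adef7bdef7bd8b655ee3bdef7bdef7bdd0bbd477bdef7bdef7bdef7bdecd5d825bdef67b6c33def66db01b1ef7b3eda1d937bdeeacdc87bdef766ee64def7b3577bded38d9edbdef6acef7b36d9bded3b79f6ddef6adc37bdeeacdef7bc3f766ef7bde61bdef7bdec12da71bdef619ed59def7bdef7bd83634edfbdec3b22b70def7bdef7bdee43de1fbdef7326f30def7bdef7bdef7b) i1))) (nat_lit 0) (nat_lit 351) List.nil) : List ℕ)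
    = ?xq9011 → (List ℕ)) ?hq9011; (case hq9011 => (set_option maxRecDepth 1000000 in set_option simprocs false in conv => lhs; reduce; dsimp only)); intro _; exact ?xq9011 : List ℕ)

/-- the pairs -/
def P27 : List (ℕ × ℕ) := (List.range 27).flatMap fun t => (List.range 27).map fun s => (t, s)

private noncomputable def _root_.Cfsg.Agent.KO550f9fb.k36.{ku0} : ((x0 : Sort (ku0+1)) → ((@List.{ku0} (@List.{ku0} @x0)) → @List.{ku0} @x0)) := @(fun (x0 : Sort (ku0+1)) (x1 : @List.{ku0} (@List.{ku0} @x0)) => @List.rec.{(ku0+1), ku0} (@List.{ku0} @x0) @(fun (x2 : @List.{ku0} (@List.{ku0} @x0)) => @List.{ku0} @x0) (@List.nil.{ku0} @x0) @(fun (x2 : @List.{ku0} @x0) (x3 : @List.{ku0} (@List.{ku0} @x0)) (x4 : @List.{ku0} @x0) => @Cfsg.Agent.KO550f9fb.k10.{ku0} @x0 @x2 @x4) @x1)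
private theorem _root_.Cfsg.Agent.KO550f9fb.e36.{ku0} : @List.flatten.{ku0} = @_root_.Cfsg.Agent.KO550f9fb.k36.{ku0} := by delta _root_.Cfsg.Agent.KO550f9fb.k36; rewrite [← Cfsg.Agent.KO550f9fb.e10.{ku0}]; funext a0 a1; refine (_root_.Cfsg.Agent.KO550f9fb.e0 (fun a1 => @List.flatten.{ku0} a0 a1) ?_ (fun c0 c1 => ?_) a1 :) <;> (rfl')
private noncomputable def _root_.Cfsg.Agent.KO550f9fb.k37.{ku0, ku1} : ((x0 : Sort (ku0+1)) → ((x1 : Sort (ku1+1)) → ((x0 → @List.{ku1} @x1) → ((@List.{ku0} @x0) → @List.{ku1} @x1)))) := @(fun (x0 : Sort (ku0+1)) (x1 : Sort (ku1+1)) (x2 : (x0 → @List.{ku1} @x1)) (x3 : @List.{ku0} @x0) => @Cfsg.Agent.KO550f9fb.k36.{ku1} @x1 (@Cfsg.Agent.KO550f9fb.k11.{ku0, ku1} @x0 (@List.{ku1} @x1) @x2 @x3))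
private theorem _root_.Cfsg.Agent.KO550f9fb.e37.{ku0, ku1} : @List.flatMap.{ku0, ku1} = @_root_.Cfsg.Agent.KO550f9fb.k37.{ku0, ku1} := by delta _root_.Cfsg.Agent.KO550f9fb.k37; rewrite [← Cfsg.Agent.KO550f9fb.e36.{ku1}, ← Cfsg.Agent.KO550f9fb.e11.{ku0, ku1}]; rfl'
private noncomputable def _root_.Cfsg.Agent.KO550f9fb.k38 : (by first | exact type_of% @Cfsg.Agent.ChevFast.fld | exact Unit : Sort _) := by first | (refine @Subtype.val _ (fun g => @Cfsg.Agent.ChevFast.fld = @g) (@Subtype.mk _ _ (@(fun (x0 : @Nat) (x1 : @Nat) => @Nat.mod (@Nat.shiftRight @x0 (@Nat.mul (nat_lit 9) @x1)) (nat_lit 512))) ?_); rfl') | exact @Cfsg.Agent.ChevFast.fld | exact ()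
private theorem _root_.Cfsg.Agent.KO550f9fb.e38 : (by first | exact @Cfsg.Agent.ChevFast.fld = @_root_.Cfsg.Agent.KO550f9fb.k38 | exact True : Prop) := by first | (delta _root_.Cfsg.Agent.KO550f9fb.k38; exact @Subtype.property _ (fun g => @Cfsg.Agent.ChevFast.fld = @g) _) | rfl | trivial
private noncomputable def _root_.Cfsg.Agent.KO550f9fb.k39 : (by first | exact type_of% @Cfsg.Agent.ChevFast.cc | exact Unit : Sort _) := by first | (refine @Subtype.val _ (fun g => @Cfsg.Agent.ChevFast.cc = @g) (@Subtype.mk _ _ (@(fun (x0 : @Nat) (x1 : @Nat) (x2 : @Nat) (x3 : @Nat) => @Cfsg.Agent.KO550f9fb.k38 (@Nat.mod (@Nat.shiftRight @x1 (@Nat.mul @x0 @x2)) (@Nat.pow (nat_lit 2) @x0)) @x3)) ?_); rewrite [← Cfsg.Agent.KO550f9fb.e38]; (try delta Cfsg.Agent.ChevFast.cc); (try generalize @Cfsg.Agent.ChevFast.fld = g0); rfl') | exact @Cfsg.Agent.ChevFast.cc | exact ()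
private theorem _root_.Cfsg.Agent.KO550f9fb.e39 : (by first | exact @Cfsg.Agent.ChevFast.cc = @_root_.Cfsg.Agent.KO550f9fb.k39 | exact True : Prop) := by first | (delta _root_.Cfsg.Agent.KO550f9fb.k39; exact @Subtype.property _ (fun g => @Cfsg.Agent.ChevFast.cc = @g) _) | rfl | trivial
private noncomputable def _root_.Cfsg.Agent.KO550f9fb.k40 : (by first | exact type_of% @Cfsg.Agent.ChevFast.Tg.tF | exact Unit : Sort _) := by first | (refine @Subtype.val _ (fun g => @Cfsg.Agent.ChevFast.Tg.tF = @g) (@Subtype.mk _ _ (@(fun (x0 : @Nat) (x1 : @Nat) => @Nat.rec.{1} @(fun (x2 : @Nat) => @Nat) (nat_lit 240) @(fun (x2 : @Nat) (x3 : @Nat) => @Nat.sub (@Nat.div (@Nat.succ @x2) (nat_lit 2)) (nat_lit 1)) (@Nat.rec.{1} @(fun (x2 : @Nat) => @Nat) (@Cfsg.Agent.KO550f9fb.k39 (nat_lit 2160) @Cfsg.Agent.ChevFast.E8.tT (nat_lit 0) @x1) @(fun (x2 : @Nat) (x3 : @Nat) => @Cfsg.Agent.KO550f9fb.k39 (nat_lit 2160) @Cfsg.Agent.ChevFast.E8.tT (@Nat.succ @x2) @x1) @x0)))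 ?_); rewrite [← Cfsg.Agent.KO550f9fb.e39]; (try delta Cfsg.Agent.ChevFast.Tg.tF); (try generalize @Cfsg.Agent.ChevFast.cc = g0); (try generalize @Cfsg.Agent.ChevFast.E8.tT = g1); rfl') | exact @Cfsg.Agent.ChevFast.Tg.tF | exact ()
private theorem _root_.Cfsg.Agent.KO550f9fb.e40 : (by first | exact @Cfsg.Agent.ChevFast.Tg.tF = @_root_.Cfsg.Agent.KO550f9fb.k40 | exact True : Prop) := by first | (delta _root_.Cfsg.Agent.KO550f9fb.k40; exact @Subtype.property _ (fun g => @Cfsg.Agent.ChevFast.Tg.tF = @g) _) | rfl | trivial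
private noncomputable def _root_.Cfsg.Agent.KO550f9fb.k41 : (by first | exact type_of% @Cfsg.Agent.H865.L34.it0 | exact Unit : Sort _) := by first | (refine @Subtype.val _ (fun g => @Cfsg.Agent.H865.L34.it0 = @g) (@Subtype.mk _ _ (@(fun (x0 : @Nat) => @Option.rec.{1, 0} @Nat @(fun (x1 : @Option.{0} @Nat) => @Nat) (nat_lit 240) @(fun (x1 : @Nat) => x1) (@Cfsg.Agent.KO550f9fb.k8.{0} @Nat @Cfsg.Agent.H201.L34.TB @x0))) ?_); rewrite [← Cfsg.Agent.KO550f9fb.e8.{0}]; (try delta Cfsg.Agent.H865.L34.it0); (try generalize @Cfsg.Agent.H201.L34.TB = g0); rfl') | exact @Cfsg.Agent.H865.L34.it0 | exact ()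
private theorem _root_.Cfsg.Agent.KO550f9fb.e41 : (by first | exact @Cfsg.Agent.H865.L34.it0 = @_root_.Cfsg.Agent.KO550f9fb.k41 | exact True : Prop) := by first | (delta _root_.Cfsg.Agent.KO550f9fb.k41; exact @Subtype.property _ (fun g => @Cfsg.Agent.H865.L34.it0 = @g) _) | rfl | trivial
private noncomputable def _root_.Cfsg.Agent.KO550f9fb.k42 : (by first | exact type_of% @Cfsg.Agent.H201.L34.qi | exact Unit : Sort _) := by first | (refine @Subtype.val _ (fun g => @Cfsg.Agent.H201.L34.qi = @g) (@Subtype.mk _ _ (@(fun (x0 : @Nat) => @Option.rec.{1, 0} @Nat @(fun (x1 : @Option.{0} @Nat) => @Nat) (nat_lit 240) @(fun (x1 : @Nat) => x1) (@Cfsg.Agent.KO550f9fb.k8.{0} @Nat @Cfsg.Agent.H201.L34.QI @x0))) ?_); rewrite [← Cfsg.Agent.KO550f9fb.e8.{0}]; (try delta Cfsg.Agent.H201.L34.qi); (try generalize @Cfsg.Agent.H201.L34.QI = g0); rfl') | exact @Cfsg.Agent.H201.L34.qi | exact ()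
private theorem _root_.Cfsg.Agent.KO550f9fb.e42 : (by first | exact @Cfsg.Agent.H201.L34.qi = @_root_.Cfsg.Agent.KO550f9fb.k42 | exact True : Prop) := by first | (delta _root_.Cfsg.Agent.KO550f9fb.k42; exact @Subtype.property _ (fun g => @Cfsg.Agent.H201.L34.qi = @g) _) | rfl | trivial
private noncomputable def _root_.Cfsg.Agent.KO550f9fb.k43 : (by first | exact type_of% @Cfsg.Agent.H201.L34.qj | exact Unit : Sort _) := by first | (refine @Subtype.val _ (fun g => @Cfsg.Agent.H201.L34.qj = @g) (@Subtype.mk _ _ (@(fun (x0 : @Nat) => @Option.rec.{1, 0} @Nat @(fun (x1 : @Option.{0} @Nat) => @Nat) (nat_lit 240) @(fun (x1 : @Nat) => x1) (@Cfsg.Agent.KO550f9fb.k8.{0} @Nat @Cfsg.Agent.H201.L34.QJ @x0))) ?_); rewrite [← Cfsg.Agent.KO550f9fb.e8.{0}]; (try delta Cfsg.Agent.H201.L34.qj); (try generalize @Cfsg.Agent.H201.L34.QJ = g0); rfl') | exact @Cfsg.Agent.H201.L34.qj | exact ()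
private theorem _root_.Cfsg.Agent.KO550f9fb.e43 : (by first | exact @Cfsg.Agent.H201.L34.qj = @_root_.Cfsg.Agent.KO550f9fb.k43 | exact True : Prop) := by first | (delta _root_.Cfsg.Agent.KO550f9fb.k43; exact @Subtype.property _ (fun g => @Cfsg.Agent.H201.L34.qj = @g) _) | rfl | trivial
private noncomputable def _root_.Cfsg.Agent.KO550f9fb.k44 : (by first | exact type_of% @Cfsg.Agent.H865.L34.fg | exact Unit : Sort _) := by first | (refine @Subtype.val _ (fun g => @Cfsg.Agent.H865.L34.fg = @g) (@Subtype.mk _ _ (@(fun (x0 : @Nat) (x1 : @Nat) => @Option.rec.{1, 0} (@Nat → @Nat) @(fun (x2 : @Option.{0} (@Nat → @Nat)) => (@Nat → @Nat)) @(fun (x2 : @Nat) => x2) @(fun (x2 : (@Nat → @Nat)) => x2) (@Cfsg.Agent.KO550f9fb.k8.{0} (@Nat → @Nat) (@List.cons.{0} (@Nat → @Nat) @(fun (x2 : @Nat) => @Nat.sub (nat_lit 239) @x2) (@List.cons.{0} (@Nat → @Nat) @Cfsg.Agent.KO550f9fb.k42 (@List.cons.{0} (@Nat → @Nat) @Cfsg.Agent.KO550f9fb.k43 (@List.cons.{0} (@Nat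 → @Nat) @(fun (x2 : @Nat) => @Option.rec.{1, 0} @Nat @(fun (x3 : @Option.{0} @Nat) => @Nat) (nat_lit 240) @(fun (x3 : @Nat) => x3) (@Cfsg.Agent.KO550f9fb.k8.{0} @Nat @Cfsg.Agent.H201.L34.QI (@Option.rec.{1, 0} @Nat @(fun (x3 : @Option.{0} @Nat) => @Nat) (nat_lit 240) @(fun (x3 : @Nat) => x3) (@Cfsg.Agent.KO550f9fb.k8.{0} @Nat @Cfsg.Agent.H201.L34.QJ @x2)))) (@List.nil.{0} (@Nat → @Nat)))))) @x0) @x1)) ?_); rewrite [← Cfsg.Agent.KO550f9fb.e8.{0}, ← Cfsg.Agent.KO550f9fb.e42, ← Cfsg.Agent.KO550f9fb.e43]; (try delta Cfsg.Agent.H865.L34.fg Cfsg.Agent.H201.L34.qi Cfsg.Agent.H201.L34.qj); (try generalize @Cfsg.Agent.H201.L34.QI = g0); (try generalize @Cfsg.Agent.H201.L34.QJ = g1); rfl') | exact @Cfsg.Agent.H865.L34.fg | exact ()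
private theorem _root_.Cfsg.Agent.KO550f9fb.e44 : (by first | exact @Cfsg.Agent.H865.L34.fg = @_root_.Cfsg.Agent.KO550f9fb.k44 | exact True : Prop) := by first | (delta _root_.Cfsg.Agent.KO550f9fb.k44; exact @Subtype.property _ (fun g => @Cfsg.Agent.H865.L34.fg = @g) _) | rfl | trivial

theorem TV_ok : ((List.range 4).all fun g => decide (TVl.getD g [] = P27.map fun p => tg (it0 p.1) (fg g (it0 p.2)))) = true := by
  (rewrite [Cfsg.Agent.ChevFast.Tg.tg]; (first | (delta Cfsg.Agent.H865.L34.P27; rewrite [Cfsg.Agent.KO550f9fb.e1.{0}, Cfsg.Agent.KO550f9fb.e4, Cfsg.Agent.KO550f9fb.e22, Cfsg.Agent.KO550f9fb.e33.{0}, Cfsg.Agent.KO550f9fb.e11.{0, 0}, Cfsg.Agent.KO550f9fb.e40, Cfsg.Agent.KO550f9fb.e41, Cfsg.Agent.KO550f9fb.e44, Cfsg.Agent.KO550f9fb.e37.{0, 0}, Cfsg.Agent.KO550f9fb.e25.{0}, Cfsg.Agent.KO550f9fb.e27]; decide +kernel) | decide +kernel))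

/-- the equations from the table of brackets -/
noncomputable def chkE (a : ℕ × ℕ × List ℕ) : Bool := Nat.blt a.2.1 240 && (Nat.blt a.1 4 && decide (a.2.2 =
  ((List.zip P27 (TVl.getD a.1 [])).filter fun q => Nat.beq q.2 a.2.1).map fun q => 2 ^ q.1.1 ||| 2 ^ q.1.2))

private noncomputable def _root_.Cfsg.Agent.LsF.f2baccb_0 : {f // @Cfsg.Agent.H865.L34.P27 = f} := ⟨_, by first | (delta Cfsg.Agent.H865.L34.P27; rewrite [Cfsg.Agent.LsF.map_eq, Cfsg.Agent.LsF.flatMap_eq, Cfsg.Agent.LsF.range_eq]; exact rfl) | exact rfl⟩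
private noncomputable def _root_.Cfsg.Agent.LsF.f2baccb_1 : {f // @Cfsg.Agent.H865.L34.chkE = f} := ⟨_, by first | (delta Cfsg.Agent.H865.L34.chkE; rewrite [Cfsg.Agent.LsF.f2baccb_0.2, Cfsg.Agent.LsF.npow_pat, Cfsg.Agent.LsF.nor_pat, Cfsg.Agent.LsF.and_eq, Cfsg.Agent.LsF.instDecEq_eq, Cfsg.Agent.LsF.map_eq, Cfsg.Agent.LsF.filter_eq, Cfsg.Agent.LsF.zip_eq, Cfsg.Agent.LsF.getD_eq, Cfsg.Agent.LsF.dListEq_eq, Cfsg.Agent.LsF.decide_eq]; exact rfl) | exact rfl⟩
theorem chkE_all : EQl.all chkE = true := by (rewrite [Cfsg.Agent.KO550f9fb.e1.{0}]; ((try (rewrite [Cfsg.Agent.LsF.f2baccb_1.2])); decide +kernel))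

theorem zip_map {α β : Type} (l : List α) (f : α → β) : List.zip l (l.map f) = l.map fun a => (a, f a) := by
  induction l with
  | nil => rfl
  | cons a l ih => rw [List.map_cons, List.map_cons, List.zip_cons_cons, ih]

theorem xf_flatMap {α β : Type} (l : List α) (g : α → List β) (f : β → Bool) :
    xf (l.flatMap g) f = xf l fun a => xf (g a) f := by
  induction l with
  | nil => rfl
  | cons a l ih => rw [List.flatMap_cons, xf_append, xf_cons, ih]

theorem eq_spec {a : ℕ × ℕ × List ℕ} (ha : a ∈ EQl) (m : ℕ) : a.2.1 < 240 ∧ a.1 < 4 ∧ eq1 m a.2.2 =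
    xf (List.range 27) fun t => xf (List.range 27) fun s => (m.testBit t && m.testBit s) &&
      decide (tg (it0 t) (fg a.1 (it0 s)) = a.2.1) := by
  have h := List.all_eq_true.1 chkE_all a ha
  unfold chkE at h
  rw [Bool.and_eq_true, Bool.and_eq_true] at h
  obtain ⟨h1, h2, h3⟩ := h
  have hg : a.1 < 4 := Nat.blt_eq.mp h2
  refine ⟨Nat.blt_eq.mp h1, hg, ?_⟩
  have h4 := of_decide_eq_true (List.all_eq_true.1 TV_ok a.1 (List.mem_range.2 hg))
  rw [of_decide_eq_true h3, h4, zip_map]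
  unfold eq1
  rw [xf_map, ← xf_filter, xf_map]
  have e1 : (xf (List.range 27) fun t => xf (List.range 27) fun s => (m.testBit t && m.testBit s) &&
      decide (tg (it0 t) (fg a.1 (it0 s)) = a.2.1)) = xf P27 fun p => (m.testBit p.1 && m.testBit p.2) &&
      decide (tg (it0 p.1) (fg a.1 (it0 p.2)) = a.2.1) := by
    unfold P27
    rw [xf_flatMap]
    refine xf_congr fun t _ => ?_
    rw [xf_map]
  rw [e1]
  refine xf_congr fun p _ => ?_
  rw [beq_pair]
  congr 1
  rw [Bool.eq_iff_iff, Nat.beq_eq, decide_eq_true_eq]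

/-! ### the action of `Q₈` -/

theorem aK_lsum {α : Type} (g : ↥(chevE8.group KK)) (l : List α) (F : α → LK) :
    aK g ((l.map F).sum) = (l.map fun a => aK g (F a)).sum := by
  induction l with
  | nil => rw [List.map_nil, List.sum_nil, aK_zero]; rfl
  | cons a l ih => rw [List.map_cons, List.sum_cons, aK_add, ih]; rfl

theorem aK_Tf (g : ↥(chevE8.group KK)) {f f' : ℕ → ℕ} (hf : ∀ s < 240, f s < 240)
    (h : ∀ s < 240, aK g (er s) = er (f' s)) (m : ℕ) : aK g (Tf f m) = Tf (fun s => f' (f s)) m := by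
  unfold Tf
  rw [aK_lsum]
  congr 1
  refine List.map_congr_left fun t ht => ?_
  rw [aK_smul, h _ (hf _ (it0_lt ht))]

theorem aK_gz_T (m : ℕ) : aK gz (T m) = Tf (fg 0) m := aK_Tf gz (fun _ hs => hs) (fun _ hs => aK_gz hs) m

theorem aK_gi_T (m : ℕ) : aK gi (T m) = Tf (fg 1) m := aK_Tf gi (fun _ hs => hs) (fun _ hs => aK_gi hs) m

theorem aK_gj_T (m : ℕ) : aK gj (T m) = Tf (fg 2) m := aK_Tf gj (fun _ hs => hs) (fun _ hs => aK_gj hs) m

theorem aK_gij_T (m : ℕ) : aK gi (aK gj (T m)) = Tf (fg 3) m := by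
  rw [aK_gj_T]
  exact aK_Tf gi (fun _ hs => qj_lt hs) (fun _ hs => aK_gi hs) m

theorem fg_lt {g : ℕ} (hg : g < 4) : ∀ s < 240, fg g s < 240 := by
  intro s hs
  have h : g = 0 ∨ g = 1 ∨ g = 2 ∨ g = 3 := by omega
  rcases h with rfl | rfl | rfl | rfl
  · show 239 - s < 240; omega
  · exact qi_lt hs
  · exact qj_lt hs
  · exact qi_lt (qj_lt hs)

/-! ### the Cartan part of `[T, zT]` -/

private noncomputable def _root_.Cfsg.Agent.KO550f9fb.k49 : (@Nat → (@Nat → @Bool)) := @(fun (x0 : @Nat) (x1 : @Nat) => @Bool.rec.{1} @(fun (x2 : @Bool) => @Bool) @Bool.true @Bool.false (@Cfsg.Agent.KO550f9fb.k12.{1} @Bool (@Nat.land (nat_lit 1) (@Nat.shiftRight @x0 @x1)) (nat_lit 0) @Bool.false @Bool.true))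
private theorem _root_.Cfsg.Agent.KO550f9fb.e49 : @Nat.testBit = @_root_.Cfsg.Agent.KO550f9fb.k49 := by delta _root_.Cfsg.Agent.KO550f9fb.k49; rewrite [← Cfsg.Agent.KO550f9fb.e12.{1}]; rfl'
private noncomputable def _root_.Cfsg.Agent.KO550f9fb.k53 : ((x0 : @Nat) → ((x1 : @Nat) → @Decidable (@LE.le.{0} @Nat @instLENat @x0 @x1))) := @(fun (x0 : @Nat) (x1 : @Nat) => @Decidable.rec.{1} (@Eq.{1} @Bool (@Nat.ble @x0 @x1) @Bool.true) @(fun (x2 : @Decidable (@Eq.{1} @Bool (@Nat.ble @x0 @x1) @Bool.true)) => @Decidable (@LE.le.{0} @Nat @instLENat @x0 @x1)) @(fun (x2 : @Not (@Eq.{1} @Bool (@Nat.ble @x0 @x1) @Bool.true)) => @Decidable.isFalse (@LE.le.{0} @Nat @instLENat @x0 @x1) (@Nat.not_le_of_not_ble_eq_true @x0 @x1 @x2)) @(fun (x2 : @Eq.{1} @Bool (@Nat.ble @x0 @x1) @Bool.true) => @Decidable.isTrue (@LE.le.{0} @Nat @instLENat @x0 @x1) (@Nat.le_of_ble_eq_true @x0 @x1 @x2)) (@Cfsg.Agent.KO550f9fb.k29 (@Nat.ble @x0 @x1) @Bool.true))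
private theorem _root_.Cfsg.Agent.KO550f9fb.e53 : @Nat.decLe = @_root_.Cfsg.Agent.KO550f9fb.k53 := by delta _root_.Cfsg.Agent.KO550f9fb.k53; rewrite [← Cfsg.Agent.KO550f9fb.e29]; rfl'
private noncomputable def _root_.Cfsg.Agent.KO550f9fb.k54.{ku0} : ((x0 : Sort (ku0+1)) → ((@Array.{ku0} @x0) → (@Nat → (x0 → x0)))) := @(fun (x0 : Sort (ku0+1)) (x1 : @Array.{ku0} @x0) (x2 : @Nat) (x3 : x0) => @Decidable.rec.{(ku0+1)} (@LT.lt.{0} @Nat @instLTNat @x2 (@Array.size.{ku0} @x0 @x1)) @(fun (x4 : @Decidable (@LT.lt.{0} @Nat @instLTNat @x2 (@Array.size.{ku0} @x0 @x1))) => x0) @(fun (x4 : @Not (@LT.lt.{0} @Nat @instLTNat @x2 (@Array.size.{ku0} @x0 @x1))) => x3) @(fun (x4 : @LT.lt.{0} @Nat @instLTNat @x2 (@Array.size.{ku0} @x0 @x1)) => @List.get.{ku0} @x0 (@Array.toList.{ku0} @x0 @x1) (@Fin.mk (@List.length.{ku0} @x0 (@Array.toList.{ku0} @x0 @x1)) @x2 @x4)) (@Cfsg.Agent.KO550f9fb.k53 (@Nat.succ @x2) (@List.length.{ku0} @x0 (@Array.toList.{ku0} @x0 @x1))))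
private theorem _root_.Cfsg.Agent.KO550f9fb.e54.{ku0} : @Array.getD.{ku0} = @_root_.Cfsg.Agent.KO550f9fb.k54.{ku0} := by delta _root_.Cfsg.Agent.KO550f9fb.k54; rewrite [← Cfsg.Agent.KO550f9fb.e53]; rfl'
private noncomputable def _root_.Cfsg.Agent.KO550f9fb.k55.{ku0} : ((x0 : Sort ku0) → (@Bool → (x0 → (x0 → x0)))) := @(fun (x0 : Sort ku0) (x1 : @Bool) (x2 : x0) (x3 : x0) => @Bool.rec.{ku0} @(fun (x4 : @Bool) => x0) @x3 @x2 @x1)
private theorem _root_.Cfsg.Agent.KO550f9fb.e55.{ku0} : @cond.{ku0} = @_root_.Cfsg.Agent.KO550f9fb.k55.{ku0} := by delta _root_.Cfsg.Agent.KO550f9fb.k55; rfl'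
private noncomputable def _root_.Cfsg.Agent.KO550f9fb.k56 : (by first | exact type_of% @Cfsg.Agent.ChevFast.dz | exact Unit : Sort _) := by first | (refine @Subtype.val _ (fun g => @Cfsg.Agent.ChevFast.dz = @g) (@Subtype.mk _ _ (@(fun (x0 : @Nat) => @Bool.rec.{1} @(fun (x1 : @Bool) => @Int) (@Int.ofNat (@Nat.shiftRight @x0 (nat_lit 1))) (@Int.negSucc (@Nat.shiftRight @x0 (nat_lit 1))) (@Nat.beq (@Nat.land @x0 (nat_lit 1)) (nat_lit 1)))) ?_); rfl') | exact @Cfsg.Agent.ChevFast.dz | exact ()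
private theorem _root_.Cfsg.Agent.KO550f9fb.e56 : (by first | exact @Cfsg.Agent.ChevFast.dz = @_root_.Cfsg.Agent.KO550f9fb.k56 | exact True : Prop) := by first | (delta _root_.Cfsg.Agent.KO550f9fb.k56; exact @Subtype.property _ (fun g => @Cfsg.Agent.ChevFast.dz = @g) _) | rfl | trivial
private noncomputable def _root_.Cfsg.Agent.KO550f9fb.k57 : (by first | exact type_of% @Cfsg.Agent.ChevFast.gz | exact Unit : Sort _) := by first | (refine @Subtype.val _ (fun g => @Cfsg.Agent.ChevFast.gz = @g) (@Subtype.mk _ _ (@(fun (x0 : @Nat) (x1 : @Nat) (x2 : @Nat) (x3 : @Nat) => @Cfsg.Agent.KO550f9fb.k56 (@Nat.mod (@Nat.shiftRight (@Nat.mod (@Nat.shiftRight @x1 (@Nat.mul @x0 @x2)) (@Nat.pow (nat_lit 2) @x0)) (@Nat.mul (nat_lit 4) @x3)) (nat_lit 16)))) ?_); rewrite [← Cfsg.Agent.KO550f9fb.e56]; (try delta Cfsg.Agent.ChevFast.gz); (try generalize @Cfsg.Agent.ChevFast.dz = g0); rfl') | exact @Cfsg.Agent.ChevFast.gz | exact ()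
private theorem _root_.Cfsg.Agent.KO550f9fb.e57 : (by first | exact @Cfsg.Agent.ChevFast.gz = @_root_.Cfsg.Agent.KO550f9fb.k57 | exact True : Prop) := by first | (delta _root_.Cfsg.Agent.KO550f9fb.k57; exact @Subtype.property _ (fun g => @Cfsg.Agent.ChevFast.gz = @g) _) | rfl | trivial
private noncomputable def _root_.Cfsg.Agent.KO550f9fb.k58 : ((x0 : Prop) → ((@Decidable @x0) → @Decidable (@Not @x0))) := @(fun (x0 : Prop) (x1 : @Decidable @x0) => @Decidable.rec.{1} @x0 @(fun (x2 : @Decidable @x0) => @Decidable (@Not @x0)) @(fun (x2 : @Not @x0) => @Decidable.isTrue (@Not @x0) @x2) @(fun (x2 : x0) => @Decidable.isFalse (@Not @x0) (@absurd.{0} @x0 @False @x2)) @x1)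
private theorem _root_.Cfsg.Agent.KO550f9fb.e58 : @instDecidableNot = @_root_.Cfsg.Agent.KO550f9fb.k58 := by delta _root_.Cfsg.Agent.KO550f9fb.k58; rfl'
private noncomputable def _root_.Cfsg.Agent.KO550f9fb.k59 : ((x0 : @Int) → ((x1 : @Int) → @Decidable (@Eq.{1} @Int @x0 @x1))) := @(fun (x0 : @Int) (x1 : @Int) => @Int.rec.{1} @(fun (x2 : @Int) => @Decidable (@Eq.{1} @Int @x2 @x1)) @(fun (x2 : @Nat) => @Int.rec.{1} @(fun (x3 : @Int) => @Decidable (@Eq.{1} @Int (@Int.ofNat @x2) @x3)) @(fun (x3 : @Nat) => @Decidable.rec.{1} (@Eq.{1} @Nat @x2 @x3) @(fun (x4 : @Decidable (@Eq.{1} @Nat @x2 @x3)) => @Decidable (@Eq.{1} @Int (@Int.ofNat @x2) (@Int.ofNat @x3))) @(fun (x4 : @Not (@Eq.{1} @Nat @x2 @x3)) => @Decidable.isFalse (@Eq.{1} @Int (@Int.ofNat @x2) (@Int.ofNat @x3)) (@Int.decEq._proof_2 @x2 @x3 @x4)) @(fun (x4 : @Eq.{1} @Nat @x2 @x3) => @Decidable.isTrue (@Eq.{1} @Int (@Int.ofNat @x2) (@Int.ofNat @x3)) (@Int.decEq._proof_1 @x2 @x3 @x4)) (@Cfsg.Agent.KO550f9fb.k26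 @x2 @x3)) @(fun (x3 : @Nat) => @Decidable.isFalse (@Eq.{1} @Int (@Int.ofNat @x2) (@Int.negSucc @x3)) (@Int.decEq._proof_3 @x2 @x3)) @x1) @(fun (x2 : @Nat) => @Int.rec.{1} @(fun (x3 : @Int) => @Decidable (@Eq.{1} @Int (@Int.negSucc @x2) @x3)) @(fun (x3 : @Nat) => @Decidable.isFalse (@Eq.{1} @Int (@Int.negSucc @x2) (@Int.ofNat @x3)) (@Int.decEq._proof_4 @x2 @x3)) @(fun (x3 : @Nat) => @Decidable.rec.{1} (@Eq.{1} @Nat @x2 @x3) @(fun (x4 : @Decidable (@Eq.{1} @Nat @x2 @x3)) => @Decidable (@Eq.{1} @Int (@Int.negSucc @x2) (@Int.negSucc @x3))) @(fun (x4 : @Not (@Eq.{1} @Nat @x2 @x3)) => @Decidable.isFalse (@Eq.{1} @Int (@Int.negSucc @x2) (@Int.negSucc @x3)) (@Int.decEq._proof_6 @x2 @x3 @x4)) @(fun (x4 : @Eq.{1} @Nat @x2 @x3) => @Decidable.isTrue (@Eq.{1} @Int (@Int.negSucc @x2) (@Int.negSucc @x3)) (@Int.decEq._proof_5 @x2 @x3 @x4)) (@Cfsg.Agent.KO550f9fb.k26 @x2 @x3)) @x1) @x0)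
private theorem _root_.Cfsg.Agent.KO550f9fb.e59 : @Int.decEq = @_root_.Cfsg.Agent.KO550f9fb.k59 := by delta _root_.Cfsg.Agent.KO550f9fb.k59; rewrite [← Cfsg.Agent.KO550f9fb.e26]; rfl'
private noncomputable def _root_.Cfsg.Agent.KO550f9fb.k60 : @DecidableEq.{1} @Int := @Cfsg.Agent.KO550f9fb.k59
private theorem _root_.Cfsg.Agent.KO550f9fb.e60 : @Int.instDecidableEq = @_root_.Cfsg.Agent.KO550f9fb.k60 := by delta _root_.Cfsg.Agent.KO550f9fb.k60; rewrite [← Cfsg.Agent.KO550f9fb.e59]; rfl'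
private noncomputable def _root_.Cfsg.Agent.KO550f9fb.k61 : @DecidableEq.{1} @Bool := @Cfsg.Agent.KO550f9fb.k29
private theorem _root_.Cfsg.Agent.KO550f9fb.e61 : @instDecidableEqBool = @_root_.Cfsg.Agent.KO550f9fb.k61 := by delta _root_.Cfsg.Agent.KO550f9fb.k61; rewrite [← Cfsg.Agent.KO550f9fb.e29]; rfl'

theorem CM_ok : ((List.range 8).all fun i => (List.range 27).all fun t =>
    decide ((CM.getD i 0).testBit t = decide (cor chevE8 (it0 t) i % 2 ≠ 0))) = true := by (delta Cfsg.Agent.ChevalleyStructure.Columns.cor; rewrite [Cfsg.Agent.ChevFast.E8.coroot]; (first | (rewrite [Cfsg.Agent.KO550f9fb.e1.{0}, Cfsg.Agent.KO550f9fb.e4, Cfsg.Agent.KO550f9fb.e22, Cfsg.Agent.KO550f9fb.e49, Cfsg.Agent.KO550f9fb.e33.{0}, Cfsg.Agent.KO550f9fb.e54.{0}, Cfsg.Agent.KO550f9fb.e55.{1}, Cfsg.Agent.KO550f9fb.e57, Cfsg.Agent.KO550f9fb.e41, Cfsg.Agent.KO550f9fb.e58, Cfsg.Agent.KO550f9fb.e60, Cfsg.Agent.KO550f9fb.e61]; decide +kernel) | decide +kernel))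

theorem it0_inj_all : ((List.range 27).all fun t => (List.range 27).all fun s => Nat.beq t s || !Nat.beq (it0 t) (it0 s)) = true := by
  decide +kernel

theorem it0_inj {t s : ℕ} (ht : t ∈ List.range 27) (hs : s ∈ List.range 27) (h : it0 t = it0 s) : t = s := by
  have h1 := List.all_eq_true.1 (List.all_eq_true.1 it0_inj_all t ht) s hs
  rw [Bool.or_eq_true, Nat.beq_eq, h, Nat.beq_refl] at h1
  simpa using h1

theorem cc_TT (m : ℕ) {i : ℕ} (hi : i < 8) : cc i (brK (T m) (Tf (fg 0) m)) =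
    kb (xf (List.range 27) fun t => m.testBit t && (CM.getD i 0).testBit t) := by
  unfold T Tf
  rw [br_sum_l]
  refine cc_sum i _ _ _ fun t ht => ?_
  rw [br_sum_r]
  have key : ∀ s ∈ List.range 27, cc i (brK (kb (m.testBit t) • er (it0 t)) (kb (m.testBit s) • er (fg 0 (it0 s)))) =
      kb (((m.testBit t && m.testBit s) && (CM.getD i 0).testBit t) && decide (s = t)) := by
    intro s hs
    rw [br_smul_l, br_smul_r, cc_smul, cc_smul, kb_and, kb_and, kb_and, mul_assoc, mul_assoc]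
    congr 2
    show cc i (brK (er (it0 t)) (er (239 - it0 s))) = _
    by_cases h : s = t
    · subst h
      rw [br_neg (it0_lt ht), cc_hr hi, decide_eq_true rfl, kb_true, mul_one]
      congr 1
      exact (of_decide_eq_true (List.all_eq_true.1 (List.all_eq_true.1 CM_ok i (List.mem_range.2 hi)) s ht)).symm
    · rw [decide_eq_false h, kb_false, mul_zero, br_rr (it0_lt ht) (by omega), cc_er]
      intro h1
      have := it0_lt ht
      have := it0_lt hs
      exact h (it0_inj hs ht (by omega))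
  rw [cc_sum i _ _ _ key, xf_eq_of_mem List.nodup_range ht, Bool.and_self]

/-! ### the linear equations -/

/-- the basis of the vectors `(d, d, d, d)` -/
noncomputable def nb (n : ℕ) : LK := ((HL.getD n []).map fun r => hr r).sum + ((ER.getD n []).map fun r => er r).sum

/-- **the vector `(d, d, d, d)`** -/
noncomputable def nd (dm : ℕ) : LK := ((List.range 5).map fun n => kb (dm.testBit n) • nb n).sum

theorem lists_lt : ((List.range 5).all fun n => ((HL.getD n []).all fun r => Nat.blt r 240) &&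
    ((ER.getD n []).all fun r => Nat.blt r 240)) = true := by decide +kernel

/-- the coefficient of the Cartan part -/
def ch (r s : ℕ) : Bool := decide (((List.range 8).map fun i => cor chevE8 r i * car chevE8 i s).sum % 2 ≠ 0)

private noncomputable def _root_.Cfsg.Agent.KO550f9fb.k62 : (by first | exact type_of% @Cfsg.Agent.H865.L34.xf | exact Unit : Sort _) := by first | (refine @Subtype.val _ (fun g => @Cfsg.Agent.H865.L34.xf = @g) (@Subtype.mk _ _ (@(fun (x0 : Type) (x1 : @List.{0} @x0) (x2 : (x0 → @Bool)) => @Cfsg.Agent.KO550f9fb.k13.{0, 0} @x0 @Bool @(fun (x3 : x0) (x4 : @Bool) => @Bool.rec.{1} @(fun (x5 : @Bool) => @Bool) @Bool.true @Bool.false (@Decidable.rec.{1} (@Eq.{1} @Bool (@x2 @x3) @x4) @(fun (x5 : @Decidable (@Eq.{1} @Bool (@x2 @x3) @x4)) => @Bool) @(fun (x5 : @Not (@Eq.{1} @Bool (@x2 @x3) @x4)) => @Bool.false) @(fun (x5 : @Eq.{1} @Bool (@x2 @x3) @x4) => @Bool.true) (@Cfsg.Agent.KO550f9fb.k29 (@x2 @x3) @x4))) @Bool.false @x1))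 ?_); rewrite [← Cfsg.Agent.KO550f9fb.e13.{0, 0}, ← Cfsg.Agent.KO550f9fb.e29]; rfl') | exact @Cfsg.Agent.H865.L34.xf | exact ()
private theorem _root_.Cfsg.Agent.KO550f9fb.e62 : (by first | exact @Cfsg.Agent.H865.L34.xf = @_root_.Cfsg.Agent.KO550f9fb.k62 | exact True : Prop) := by first | (delta _root_.Cfsg.Agent.KO550f9fb.k62; exact @Subtype.property _ (fun g => @Cfsg.Agent.H865.L34.xf = @g) _) | rfl | trivial
private noncomputable def _root_.Cfsg.Agent.KO550f9fb.k63.{ku0} : ((x0 : Sort (ku0+1)) → ((@Add.{ku0} @x0) → ((@Zero.{ku0} @x0) → ((@List.{ku0} @x0) → x0)))) := @(fun (x0 : Sort (ku0+1)) (x1 : @Add.{ku0} @x0) (x2 : @Zero.{ku0} @x0) => @Cfsg.Agent.KO550f9fb.k13.{ku0, ku0} @x0 @x0 @(fun (x3 : x0) (x4 : x0) => @Add.add.{ku0} @x0 @x1 @x3 @x4) (@Zero.zero.{ku0} @x0 @x2))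
private theorem _root_.Cfsg.Agent.KO550f9fb.e63.{ku0} : @List.sum.{ku0} = @_root_.Cfsg.Agent.KO550f9fb.k63.{ku0} := by delta _root_.Cfsg.Agent.KO550f9fb.k63; rewrite [← Cfsg.Agent.KO550f9fb.e13.{ku0, ku0}]; rfl'

theorem HC_ok : ((List.range 5).all fun n => (List.range 27).all fun t =>
    decide ((HC.getD n 0).testBit t = xf (HL.getD n []) fun r => ch r (it0 t))) = true := by (delta Cfsg.Agent.ChevalleyStructure.Columns.car Cfsg.Agent.ChevalleyStructure.Columns.cor Cfsg.Agent.H865.L34.ch; rewrite [Cfsg.Agent.ChevFast.E8.coroot]; (try set_option simprocs false in simp -zeta only [Cfsg.Agent.ChevFast.E8.cartanR]); (first | (rewrite [Cfsg.Agent.KO550f9fb.e1.{0}, Cfsg.Agent.KO550f9fb.e4, Cfsg.Agent.KO550f9fb.e22, Cfsg.Agent.KO550f9fb.e49, Cfsg.Agent.KO550f9fb.e33.{0}, Cfsg.Agent.KO550f9fb.e62, Cfsg.Agent.KO550f9fb.e63.{0}, Cfsg.Agent.KO550f9fb.e11.{0, 0}, Cfsg.Agent.KO550f9fb.e54.{0}, Cfsg.Agent.KO550f9fb.e55.{1}, Cfsg.Agent.KO550f9fb.e57, Cfsg.Agent.KO550f9fb.e41,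 Cfsg.Agent.KO550f9fb.e58, Cfsg.Agent.KO550f9fb.e60, Cfsg.Agent.KO550f9fb.e61]; decide +kernel) | decide +kernel))

theorem NT_ok : ((List.range 5).all fun n => (List.range 27).all fun t =>
    decide (NT.getD (27 * n + t) [] = (ER.getD n []).map fun r => tg r (it0 t))) = true := by (rewrite [Cfsg.Agent.ChevFast.Tg.tg]; (first | (rewrite [Cfsg.Agent.KO550f9fb.e1.{0}, Cfsg.Agent.KO550f9fb.e4, Cfsg.Agent.KO550f9fb.e22, Cfsg.Agent.KO550f9fb.e33.{0}, Cfsg.Agent.KO550f9fb.e11.{0, 0}, Cfsg.Agent.KO550f9fb.e40, Cfsg.Agent.KO550f9fb.e41, Cfsg.Agent.KO550f9fb.e25.{0}, Cfsg.Agent.KO550f9fb.e27]; decide +kernel) | decide +kernel))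

private noncomputable def _root_.Cfsg.Agent.KO550f9fb.k64.{ku0} : ((x0 : Sort (ku0+1)) → ((@BEq.{ku0} @x0) → (x0 → (x0 → @Bool)))) := @(fun (x0 : Sort (ku0+1)) (x1 : @BEq.{ku0} @x0) (x2 : x0) (x3 : x0) => @Bool.rec.{1} @(fun (x4 : @Bool) => @Bool) @Bool.true @Bool.false (@BEq.beq.{ku0} @x0 @x1 @x2 @x3))
private theorem _root_.Cfsg.Agent.KO550f9fb.e64.{ku0} : @bne.{ku0} = @_root_.Cfsg.Agent.KO550f9fb.k64.{ku0} := by delta _root_.Cfsg.Agent.KO550f9fb.k64; rfl'
private noncomputable def _root_.Cfsg.Agent.KO550f9fb.k65 : (@Bool → (@Bool → @Bool)) := @Cfsg.Agent.KO550f9fb.k64.{0} @Bool (@BEq.mk.{0} @Bool @(fun (x0 : @Bool) (x1 : @Bool) => @Decidable.rec.{1} (@Eq.{1} @Bool @x0 @x1) @(fun (x2 : @Decidable (@Eq.{1} @Bool @x0 @x1)) => @Bool) @(fun (x2 : @Not (@Eq.{1} @Bool @x0 @x1)) => @Bool.false) @(fun (x2 : @Eq.{1} @Bool @x0 @x1) => @Bool.true) (@Cfsg.Agent.KO550f9fb.k29 @x0 @x1)))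
private theorem _root_.Cfsg.Agent.KO550f9fb.e65 : @Bool.xor = @_root_.Cfsg.Agent.KO550f9fb.k65 := by delta _root_.Cfsg.Agent.KO550f9fb.k65; rewrite [← Cfsg.Agent.KO550f9fb.e64.{0}, ← Cfsg.Agent.KO550f9fb.e29]; rfl'
private noncomputable def _root_.Cfsg.Agent.KO550f9fb.k66 : (@Bool → (@Bool → @Bool)) := @(fun (x0 : @Bool) (x1 : @Bool) => @Bool.rec.{1} @(fun (x2 : @Bool) => @Bool) @Bool.false @x1 @x0)
private theorem _root_.Cfsg.Agent.KO550f9fb.e66 : @Bool.and = @_root_.Cfsg.Agent.KO550f9fb.k66 := by delta _root_.Cfsg.Agent.KO550f9fb.k66; rfl'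

theorem BR_ok : ((List.range 5).all fun n => (List.range 27).all fun u => (List.range 27).all fun t =>
    decide (((BR.getD n []).getD u 0).testBit t = xor ((HC.getD n 0).testBit t && Nat.beq u t)
      (xf (NT.getD (27 * n + t) []) fun v => Nat.beq v (it0 u)))) = true := by (first | (rewrite [Cfsg.Agent.KO550f9fb.e1.{0}, Cfsg.Agent.KO550f9fb.e4, Cfsg.Agent.KO550f9fb.e22, Cfsg.Agent.KO550f9fb.e49, Cfsg.Agent.KO550f9fb.e33.{0}, Cfsg.Agent.KO550f9fb.e65, Cfsg.Agent.KO550f9fb.e66, Cfsg.Agent.KO550f9fb.e62, Cfsg.Agent.KO550f9fb.e41, Cfsg.Agent.KO550f9fb.e61]; decide +kernel) | decide +kernel)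

theorem br_hr_er (r : ℕ) {s : ℕ} (hs : s < 240) : brK (hr r) (er s) = kb (ch r s) • er s := by
  unfold Cfsg.Agent.H413.L16.hr
  rw [br_hv _ hs]
  congr 1
  unfold ch
  rw [kb_decide]
  have e : (∑ i : Fin chevE8.rank, ((cor chevE8 r i : ℤ) : KK) * ((car chevE8 i s : ℤ) : KK)) =
      ∑ i ∈ Finset.range chevE8.rank, ((cor chevE8 r i * car chevE8 i s : ℤ) : KK) := by
    rw [Finset.sum_range]
    exact Finset.sum_congr rfl fun i _ => by push_cast; rfl
  have e2 : ∀ F : ℕ → ℤ, (∑ i ∈ Finset.range 8, ((F i : ℤ) : KK)) = ((((List.range 8).map F).sum : ℤ) : KK) := by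
    intro F
    simp only [Finset.sum_range_succ, Finset.sum_range_zero, zero_add]
    show _ = (((F 0 + (F 1 + (F 2 + (F 3 + (F 4 + (F 5 + (F 6 + (F 7 + 0)))))))) : ℤ) : KK)
    push_cast
    ring
  rw [e, rk8, e2]
  split_ifs with h
  · exact cast_odd h
  · exact cast_even (not_not.1 h)

theorem co_hr (u r : ℕ) : co u (hr r) = 0 := co_hv _ _

theorem mem_lists {n : ℕ} (hn : n ∈ List.range 5) : (∀ r ∈ HL.getD n [], r < 240) ∧ ∀ r ∈ ER.getD n [], r < 240 := by
  have h := List.all_eq_true.1 lists_lt n hn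
  rw [Bool.and_eq_true] at h
  exact ⟨fun r hr1 => Nat.blt_eq.mp (List.all_eq_true.1 h.1 r hr1), fun r hr1 => Nat.blt_eq.mp (List.all_eq_true.1 h.2 r hr1)⟩

theorem co_nb {n u t : ℕ} (hn : n ∈ List.range 5) (hu : u ∈ List.range 27) (ht : t ∈ List.range 27) :
    co (it0 u) (brK (nb n) (er (it0 t))) = kb (((BR.getD n []).getD u 0).testBit t) := by
  have h1 := of_decide_eq_true (List.all_eq_true.1 (List.all_eq_true.1 (List.all_eq_true.1 BR_ok n hn) u hu) t ht)
  have h2 := of_decide_eq_true (List.all_eq_true.1 (List.all_eq_true.1 HC_ok n hn) t ht)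
  have h3 := of_decide_eq_true (List.all_eq_true.1 (List.all_eq_true.1 NT_ok n hn) t ht)
  rw [h1, h2, h3, kb_xor]
  unfold nb
  rw [br_add_l, co_add, br_sum_l, br_sum_l]
  congr 1
  · have key : ∀ r ∈ HL.getD n [], co (it0 u) (brK (hr r) (er (it0 t))) = kb (Nat.beq u t && ch r (it0 t)) := by
      intro r _
      rw [br_hr_er r (it0_lt ht), co_smul, co_er (it0_lt hu), kb_and, mul_comm]
      congr 2
      rw [Bool.eq_iff_iff, decide_eq_true_eq, Nat.beq_eq]
      exact ⟨fun h => (it0_inj ht hu h).symm, fun h => by rw [h]⟩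
    rw [co_sum _ _ _ _ key, xf_and, Bool.and_comm]
  · have key : ∀ r ∈ ER.getD n [], co (it0 u) (brK (er r) (er (it0 t))) = kb (Nat.beq (tg r (it0 t)) (it0 u)) := by
      intro r hr1
      rw [co_br ((mem_lists hn).2 r hr1) (it0_lt ht) (it0_lt hu)]
      congr 1
      rw [Bool.eq_iff_iff, decide_eq_true_eq, Nat.beq_eq]
    rw [co_sum _ _ _ _ key, xf_map]

theorem co_ndT {dm m u : ℕ} (hm : m < 2 ^ 27) (hu : u ∈ List.range 27) :
    co (it0 u) (brK (nd dm) (T m)) = kb (pty (Nat.land m (rowd dm u))) := by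
  rw [pty_rowd hm]
  unfold nd
  rw [br_sum_l]
  refine co_sum _ _ _ _ fun n hn => ?_
  rw [br_smul_l, co_smul, kb_and]
  congr 1
  unfold T Tf
  rw [br_sum_r]
  refine co_sum _ _ _ _ fun t ht => ?_
  rw [br_smul_r, co_smul, kb_and, co_nb hn hu ht]

/-- **the tensors commuting with their images and with `d`** -/
theorem abel {dm m : ℕ} (h0 : dm ≠ 0) (h : dm < 32) (hm : m < 2 ^ 27) (hd : brK (nd dm) (T m) = 0)
    (hz : brK (T m) (aK gz (T m)) = 0) (hi : brK (T m) (aK gi (T m)) = 0) (hj : brK (T m) (aK gj (T m)) = 0)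
    (hk : brK (T m) (aK gi (aK gj (T m))) = 0) : m ∈ SOL.getD dm [] := by
  refine search h0 h hm ?_ ?_
  · intro r hr1
    unfold raw at hr1
    rw [List.mem_append, List.mem_map] at hr1
    rcases hr1 with ⟨u, hu, rfl⟩ | hr1
    · apply kb_inj
      rw [← co_ndT hm hu, hd, co_zero]
    · obtain ⟨i, hi1, hi2⟩ := List.mem_iff_getElem.1 hr1
      have hi3 : i < 8 := hi1
      have e : CM.getD i 0 = r := by
        rw [← hi2]
        exact List.getD_eq_getElem _ _ hi1
      apply kb_inj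
      rw [pty_land_27 hm, ← e, ← cc_TT m hi3, ← aK_gz_T, hz, cc_zero]
  · intro a ha
    obtain ⟨h1, h2, h3⟩ := eq_spec ha m
    apply kb_inj
    rw [h3, ← co_TT (fg_lt h2) m h1]
    have h4 : a.1 = 0 ∨ a.1 = 1 ∨ a.1 = 2 ∨ a.1 = 3 := by omega
    rcases h4 with h4 | h4 | h4 | h4
    · rw [h4, ← aK_gz_T, hz, co_zero]
    · rw [h4, ← aK_gi_T, hi, co_zero]
    · rw [h4, ← aK_gj_T, hj, co_zero]
    · rw [h4, ← aK_gij_T, hk, co_zero]

end Cfsg.Agent.H865.L34
end
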